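import Groth.Agent.FactLocus.Groups
import Groth.Agent.FactLocus.Lfp
import Groth.Agent.CentralDescent.Cover
import Groth.Agent.CoeffLocus.Locus

/-!
The locus where a homomorphism out of a group of multiplicative type and finite type factors through a central
subgroup of multiplicative type and finite type is open and closed.
-/

universe u

open CategoryTheory Limits MonoidalCategory CartesianMonoidalCategory AlgebraicGeometry
open scoped MonObj
open CoactBr Groth.Agent.DiagGrp Groth.Agent.DiagAction Groth.Agent.CentralDescent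

set_option linter.style.haveILetI false
set_option backward.isDefEq.respectTransparency false

noncomputable section

namespace Groth.Agent.FactLocus

variable {S : Scheme.{u}}

theorem isFpqcCov_comp {T T' S : Scheme.{u}} (g : T' ⟶ T) (f : T ⟶ S) (hg : IsFpqcCov g) (hf : IsFpqcCov f) :
    IsFpqcCov (g ≫ f) := by
  intro V hV
  obtain ⟨W, hW, e⟩ := hf V hV
  haveI := (isFpqcCov_iff g).mp hg
  haveI : Unique (PreZeroHypercover.singleton.{0} g).I₀ := inferInstanceAs (Unique PUnit)
  obtain ⟨W', hW', e'⟩ := IsCompactOpenCovered.iff_of_unique.mp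
    (QuasiCompactCover.isCompactOpenCovered_of_isCompact (PreZeroHypercover.singleton.{0} g) hW)
  refine ⟨W', hW', ?_⟩
  rw [Scheme.Hom.comp_base, TopCat.coe_comp, Set.image_comp, ← e]
  congr 1

/-- a set with open preimage under an fpqc covering is open -/
theorem isOpen_of_preimage {S S' : Scheme.{u}} (f : S' ⟶ S) [Flat f] [Surjective f] (hcov : IsFpqcCov f)
    {Q : Set S} (hQ : IsOpen (f ⁻¹' Q)) : IsOpen Q := by
  refine isOpen_iff_forall_mem_open.mpr fun s hs => ?_
  obtain ⟨_, ⟨VS, hVS, rfl⟩, hsV, -⟩ := S.isBasis_affineOpens.exists_subset_of_mem_open (Set.mem_univ s) isOpen_univ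
  replace hVS : IsAffineOpen VS := hVS
  obtain ⟨W, hWc, hWV⟩ := hcov VS hVS
  let g : (W : Scheme.{u}) ⟶ VS := IsOpenImmersion.lift (Scheme.Opens.ι VS) (W.ι ≫ f) (by
    rw [Scheme.Hom.comp_base, TopCat.coe_comp, Set.range_comp, Scheme.Opens.range_ι, Scheme.Opens.range_ι, hWV])
  have hg : g ≫ (Scheme.Opens.ι VS) = W.ι ≫ f := IsOpenImmersion.lift_fac _ _ _
  haveI : Flat g := by
    haveI : Flat (g ≫ (Scheme.Opens.ι VS)) := by rw [hg]; infer_instance
    exact MorphismProperty.of_postcomp (W := @Flat) (W' := @IsOpenImmersion) g (Scheme.Opens.ι VS) inferInstance ‹_›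
  haveI : Surjective g := ⟨fun ⟨v, hv⟩ => by
    obtain ⟨w, hw, rfl⟩ := hWV.ge hv
    refine ⟨⟨w, hw⟩, (Scheme.Opens.ι VS).isOpenEmbedding.injective ?_⟩
    rw [← Scheme.Hom.comp_apply, hg]
    rfl⟩
  haveI : CompactSpace (W : Scheme.{u}) := isCompact_iff_compactSpace.mp hWc
  haveI : IsAffine (VS : Scheme.{u}) := hVS
  haveI : QuasiCompact g := inferInstance
  have h1 : IsOpen ((Scheme.Opens.ι VS) ⁻¹' Q) := by
    rw [← (Flat.isQuotientMap_of_surjective g).isOpen_preimage, ← Set.preimage_comp, ← TopCat.coe_comp,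
      ← Scheme.Hom.comp_base, hg, Scheme.Hom.comp_base, TopCat.coe_comp, Set.preimage_comp]
    exact hQ.preimage W.ι.continuous
  exact ⟨(Scheme.Opens.ι VS) '' ((Scheme.Opens.ι VS) ⁻¹' Q), Set.image_preimage_subset _ _, (Scheme.Opens.ι VS).isOpenEmbedding.isOpenMap _ h1,
    ⟨⟨s, hsV⟩, hs, rfl⟩⟩

theorem exists_common_cover {H H' : Over S} [GrpObj H] [GrpObj H'] (h : SGA3x.IsMultTypeFT H) (h' : SGA3x.IsMultTypeFT H') :
    ∃ (S' : Scheme.{u}) (f : S' ⟶ S), Flat f ∧ Surjective f ∧ IsFpqcCov f ∧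
      ∀ q : S', ∃ (V : S'.Opens) (hV : IsAffineOpen V) (M M' : Type) (_ : CommGroup M) (_ : CommGroup M'),
        q ∈ V ∧ Group.FG M ∧ Group.FG M' ∧ ∀ (C : Type u) [CommRing C] [Algebra Γ(S', V) C],
          Nonempty (Grp.mk (Red.bc (Spec.map (CommRingCat.ofHom (algebraMap Γ(S', V) C)) ≫ hV.fromSpec ≫ f) H) ≅
              Grp.mk (sp C (MonoidAlgebra C M))) ∧
          Nonempty (Grp.mk (Red.bc (Spec.map (CommRingCat.ofHom (algebraMap Γ(S', V) C)) ≫ hV.fromSpec ≫ f) H') ≅
              Grp.mk (sp C (MonoidAlgebra C M'))) := by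
  obtain ⟨S₁, f₁, hfl₁, hs₁, hcov₁, hloc₁⟩ := h
  obtain ⟨S₂, f₂, hfl₂, hs₂, hcov₂, hloc₂⟩ := h'
  haveI : Flat f₁ := hfl₁
  haveI : Surjective f₁ := hs₁
  haveI : Flat f₂ := hfl₂
  haveI : Surjective f₂ := hs₂
  refine ⟨pullback f₁ f₂, pullback.fst f₁ f₂ ≫ f₁, inferInstance, inferInstance,
    isFpqcCov_comp _ _ (isFpqcCov_fst f₂ hcov₂ f₁) hcov₁, fun q => ?_⟩
  obtain ⟨U₁, hU₁, M, _, hM, hE₁⟩ := hloc₁ (pullback.fst f₁ f₂ q)
  obtain ⟨U₂, hU₂, M', _, hM', hE₂⟩ := hloc₂ (pullback.snd f₁ f₂ q)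
  obtain ⟨_, ⟨V, hV, rfl⟩, hqV, hVU⟩ := (pullback f₁ f₂).isBasis_affineOpens.exists_subset_of_mem_open
    (show q ∈ (pullback.fst f₁ f₂) ⁻¹' (U₁ : Set S₁) ∩ (pullback.snd f₁ f₂) ⁻¹' (U₂ : Set S₂) from ⟨hU₁, hU₂⟩)
    ((U₁.isOpen.preimage (pullback.fst f₁ f₂).continuous).inter (U₂.isOpen.preimage (pullback.snd f₁ f₂).continuous))
  replace hV : IsAffineOpen V := hV
  haveI : AddGroup.FG M := hM
  haveI : AddGroup.FG M' := hM'
  refine ⟨V, hV, Multiplicative M, Multiplicative M', inferInstance, inferInstance, hqV,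
    inferInstance, inferInstance, fun C _ _ => ?_⟩
  let a := Spec.map (CommRingCat.ofHom (algebraMap Γ(pullback f₁ f₂, V) C))
  let j₁ : Spec (CommRingCat.of C) ⟶ U₁ := IsOpenImmersion.lift U₁.ι (a ≫ hV.fromSpec ≫ pullback.fst f₁ f₂) (by
    rintro _ ⟨z, rfl⟩
    exact (Scheme.Opens.range_ι U₁).ge (hVU (hV.range_fromSpec.le ⟨a z, rfl⟩)).1)
  let j₂ : Spec (CommRingCat.of C) ⟶ U₂ := IsOpenImmersion.lift U₂.ι (a ≫ hV.fromSpec ≫ pullback.snd f₁ f₂) (by
    rintro _ ⟨z, rfl⟩
    exact (Scheme.Opens.range_ι U₂).ge (hVU (hV.range_fromSpec.le ⟨a z, rfl⟩)).2)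
  exact ⟨exists_chart_affine j₁ (U₁.ι ≫ f₁) _ (by rw [← Category.assoc, IsOpenImmersion.lift_fac]; simp [a]) H hE₁,
    exists_chart_affine j₂ (U₂.ι ≫ f₂) _ (by
      rw [← Category.assoc, IsOpenImmersion.lift_fac]; simp [a, pullback.condition]) H' hE₂⟩

variable {H G H₁ : Over S} {i : H₁ ⟶ G} {u : H ⟶ G}

theorem fact_residue_iff [IsImmersion i.left] {K : Type u} [Field K] (g : Spec (CommRingCat.of K) ⟶ S)
    (z : Spec (CommRingCat.of K)) : Fact i u g ↔ Fact i u (S.fromSpecResidueField (g z)) := by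
  obtain ⟨⟨x, φ⟩, hxφ⟩ : ∃ p, (Scheme.SpecToEquivOfField K S).symm p = g :=
    ⟨Scheme.SpecToEquivOfField K S g, Equiv.symm_apply_apply _ _⟩
  have hg : Spec.map φ ≫ S.fromSpecResidueField x = g := hxφ
  have hx : g z = x := by
    rw [← hg, Scheme.Hom.comp_apply, Scheme.fromSpecResidueField_apply]
  rw [hx, ← hg]
  haveI : Surjective (Spec.map φ) := ⟨fun y => ⟨z, Subsingleton.elim _ _⟩⟩
  haveI : Flat (Spec.map φ) := by
    rw [HasRingHomProperty.Spec_iff (P := @Flat)]
    letI := φ.hom.toAlgebra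
    letI : Field (S.residueField x) := inferInstance
    exact RingHom.flat_algebraMap_iff.mpr (inferInstanceAs (Module.Flat (S.residueField x) K))
  exact ⟨fun h => fact_of_cover _ (Spec.map φ) h, fun h => h.comp _⟩

theorem locallyOfFinitePresentation_fst [GrpObj H] [GrpObj G] [GrpObj H₁] (hH : SGA3x.IsMultTypeFT H)
    (hH₁ : SGA3x.IsMultTypeFT H₁) [IsImmersion i.left]
    (hG : IsLocallyNoetherian S ∨ LocallyOfFinitePresentation G.hom) :
    LocallyOfFinitePresentation (pullback.fst u.left i.left) := by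
  rcases hG with hN | hfp
  · haveI := FibrewiseCrit.locallyOfFiniteType_of_isMultTypeFT H hH
    haveI : IsLocallyNoetherian H.left := LocallyOfFiniteType.isLocallyNoetherian H.hom
    haveI : LocallyOfFiniteType (pullback.fst u.left i.left) := inferInstance
    infer_instance
  · have : LocallyOfFinitePresentation i.left := by
      refine FibrewiseCrit.locallyOfFinitePresentation_of_comp _ G.hom ?_ inferInstance
      rw [Over.w i]
      exact locallyOfFinitePresentation_of_isMultTypeFT H₁ hH₁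
    exact MorphismProperty.pullback_fst _ _ this

theorem exists_clopen_factLocus (H G H₁ : Over S) [GrpObj H] [GrpObj G] [GrpObj H₁] (hH : SGA3x.IsMultTypeFT H)
    (hH₁ : SGA3x.IsMultTypeFT H₁) [IsSeparated G.hom]
    (hG : IsLocallyNoetherian S ∨ LocallyOfFinitePresentation G.hom)
    (i : H₁ ⟶ G) [IsMonHom i] [IsImmersion i.left] (u : H ⟶ G) [IsMonHom u]
    (hc : ∀ (X : Over S) (g : X ⟶ G) (h : X ⟶ H₁), g * (h ≫ i) = (h ≫ i) * g) :
    ∃ U : S.Opens, IsClosed (U : Set S) ∧ (∀ s : S, s ∈ U ↔ Fact i u (S.fromSpecResidueField s)) ∧ Fact i u U.ι := by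
  have hk := locallyOfFinitePresentation_fst (i := i) (u := u) hH hH₁ hG
  obtain ⟨S', f, _, _, hcov, hloc⟩ := exists_common_cover hH hH₁
  let T : Set S := {s | Fact i u (S.fromSpecResidueField s)}
  have hlocal : ∀ q : S', ∃ (V : S'.Opens) (hV : IsAffineOpen V) (c : Ideal Γ(S', V)), q ∈ V ∧
      (∀ p : PrimeSpectrum Γ(S', V), f (hV.fromSpec p) ∈ T ↔ c ≤ p.asIdeal) ∧
      (∀ p : PrimeSpectrum Γ(S', V), c ≤ p.asIdeal → ∃ a : Γ(S', V), a ∉ p.asIdeal ∧
        Fact i u (Spec.map (CommRingCat.ofHom (algebraMap Γ(S', V) (Localization.Away a))) ≫ hV.fromSpec ≫ f)) := by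
    intro q
    obtain ⟨V, hV, M, M₁, _, _, hqV, hM, hM₁, hchart⟩ := hloc q
    let v := hV.fromSpec ≫ f
    obtain ⟨⟨E₀⟩, ⟨E₁'⟩⟩ := hchart Γ(S', V)
    have hv : Spec.map (CommRingCat.ofHom (algebraMap Γ(S', V) Γ(S', V))) ≫ v = v := by
      rw [show CommRingCat.ofHom (algebraMap Γ(S', V) Γ(S', V)) = 𝟙 _ from rfl, Spec.map_id, Category.id_comp]
    obtain ⟨c₀⟩ := bc_congr_grp hv H
    obtain ⟨c₁⟩ := bc_congr_grp hv H₁
    let E := c₀.symm ≪≫ E₀
    let E₁ := c₁.symm ≪≫ E₁'
    let e : sp Γ(S', V) (MonoidAlgebra Γ(S', V) M) ⟶ Red.bc v H := E.inv.hom.hom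
    haveI : IsMonHom e := E.inv.hom.isMonHom_hom
    haveI : IsIso e := ((Grp.forget _).mapIso E).isIso_inv
    let e₁ : sp Γ(S', V) (MonoidAlgebra Γ(S', V) M₁) ⟶ Red.bc v H₁ := E₁.inv.hom.hom
    haveI : IsMonHom e₁ := E₁.inv.hom.isMonHom_hom
    haveI : IsIso e₁ := ((Grp.forget _).mapIso E₁).isIso_inv
    haveI : IsImmersion (facι i u v e) := inferInstance
    haveI : LocallyOfFinitePresentation (facι i u v e) := by
      have h1 : LocallyOfFinitePresentation (pullback.fst (downP v e).left (pullback.fst u.left i.left)) :=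
        MorphismProperty.pullback_fst _ _ hk
      rw [facι, ← pullbackRightPullbackFstIso_inv_fst u.left i.left (downP v e).left]
      infer_instance
    obtain ⟨c, hc'⟩ := exists_locus_ideal (mulClosed (i := i) (u := u) v e) (torClosed (i := i) (u := u) v e e₁)
    have hres : ∀ p : PrimeSpectrum Γ(S', V), f (hV.fromSpec p) ∈ T ↔ AllFac (facι i u v e) p.asIdeal.ResidueField := by
      intro p
      let g := Spec.map (CommRingCat.ofHom (algebraMap Γ(S', V) p.asIdeal.ResidueField)) ≫ v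
      have hgz : g (default : PrimeSpectrum p.asIdeal.ResidueField) = f (hV.fromSpec p) := by
        simp only [g, v, Scheme.Hom.comp_apply]
        congr 2
        refine PrimeSpectrum.ext ?_
        show (default : PrimeSpectrum p.asIdeal.ResidueField).asIdeal.comap (algebraMap _ _) = p.asIdeal
        rw [show (default : PrimeSpectrum p.asIdeal.ResidueField).asIdeal = ⊥ from
          ((default : PrimeSpectrum p.asIdeal.ResidueField).asIdeal.eq_bot_or_top).resolve_right
            (default : PrimeSpectrum p.asIdeal.ResidueField).isPrime.ne_top]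
        exact Ideal.ker_algebraMap_residueField p.asIdeal
      show Fact i u (S.fromSpecResidueField (f (hV.fromSpec p))) ↔ _
      rw [← hgz, ← fact_residue_iff g, allFac_iff]
    refine ⟨V, hV, c, hqV, fun p => ?_, fun p hp => ?_⟩
    · rw [hres, hc', Ideal.ker_algebraMap_residueField]
    · obtain ⟨a, ha, hall⟩ := exists_nhd (mulClosed (i := i) (u := u) v e) p.asIdeal
        ((hc' _).mpr (hp.trans (Ideal.ker_algebraMap_residueField p.asIdeal).ge))
        (fun C _ _ J hJ _ _ h0 => rigid (i := i) (u := u) v e hchart hc C J hJ h0)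
      exact ⟨a, ha, (allFac_iff v e _).mp hall⟩
  choose V hV c hqV hT hA using hlocal
  have hclopen : IsClopen (f ⁻¹' T) := by
    have hpre : ∀ q : S', (hV q).fromSpec ⁻¹' (f ⁻¹' T) = PrimeSpectrum.zeroLocus (c q : Set Γ(S', V q)) := fun q => by
      ext p
      exact hT q p
    have hop : ∀ q : S', IsClopen ((hV q).fromSpec ⁻¹' (f ⁻¹' T)) := fun q => by
      refine ⟨by rw [hpre]; exact PrimeSpectrum.isClosed_zeroLocus _, isOpen_iff_forall_mem_open.mpr fun p hp => ?_⟩
      obtain ⟨a, ha, htr⟩ := hA q p ((hT q p).mp hp)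
      refine ⟨((PrimeSpectrum.basicOpen a : TopologicalSpace.Opens (PrimeSpectrum Γ(S', V q))) : Set (PrimeSpectrum Γ(S', V q))),
        fun p' hp' => ?_, (PrimeSpectrum.basicOpen a).isOpen, ha⟩
      obtain ⟨z, hz⟩ := (PrimeSpectrum.localization_away_comap_range (Localization.Away a) a).ge hp'
      let g : Spec (CommRingCat.of ((z.asIdeal).ResidueField)) ⟶ S :=
        Spec.map (CommRingCat.ofHom (algebraMap (Localization.Away a) z.asIdeal.ResidueField)) ≫
          Spec.map (CommRingCat.ofHom (algebraMap Γ(S', V q) (Localization.Away a))) ≫ (hV q).fromSpec ≫ f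
      have hg : g (default : PrimeSpectrum z.asIdeal.ResidueField) = f ((hV q).fromSpec p') := by
        simp only [g, Scheme.Hom.comp_apply]
        have h1 : Spec.map (CommRingCat.ofHom (algebraMap (Localization.Away a) z.asIdeal.ResidueField))
            (default : PrimeSpectrum z.asIdeal.ResidueField) = z := by
          refine PrimeSpectrum.ext ?_
          show (default : PrimeSpectrum z.asIdeal.ResidueField).asIdeal.comap (algebraMap _ _) = z.asIdeal
          rw [show (default : PrimeSpectrum z.asIdeal.ResidueField).asIdeal = ⊥ from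
            ((default : PrimeSpectrum z.asIdeal.ResidueField).asIdeal.eq_bot_or_top).resolve_right
              (default : PrimeSpectrum z.asIdeal.ResidueField).isPrime.ne_top]
          exact Ideal.ker_algebraMap_residueField z.asIdeal
        rw [h1]
        exact congrArg (fun w => f ((hV q).fromSpec w)) hz
      show Fact i u (S.fromSpecResidueField (f ((hV q).fromSpec p')))
      rw [← hg, ← fact_residue_iff g]
      exact htr.comp _
    have key : ∀ Tset : Set S', (∀ q, IsOpen ((hV q).fromSpec ⁻¹' Tset)) → IsOpen Tset := fun Tset h => by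
      refine isOpen_iff_forall_mem_open.mpr fun q hq => ⟨(hV q).fromSpec '' ((hV q).fromSpec ⁻¹' Tset),
        Set.image_preimage_subset _ _, (hV q).fromSpec.isOpenEmbedding.isOpenMap _ (h q), ?_⟩
      obtain ⟨p, hp⟩ := (hV q).range_fromSpec.ge (hqV q)
      exact ⟨p, by show (hV q).fromSpec p ∈ Tset; rw [hp]; exact hq, hp⟩
    exact ⟨isOpen_compl_iff.mp (key _ fun q => by rw [Set.preimage_compl]; exact (hop q).compl.isOpen),
      key _ fun q => (hop q).isOpen⟩
  have key : ∀ Q : Set S, IsOpen (f ⁻¹' Q) → IsOpen Q := fun Q hQ => isOpen_of_preimage f hcov hQ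
  let U : S.Opens := ⟨T, key _ hclopen.isOpen⟩
  refine ⟨U, isOpen_compl_iff.mp (key _ (by rw [Set.preimage_compl]; exact hclopen.compl.isOpen)), fun s => Iff.rfl, ?_⟩
  haveI : Flat (f ∣_ U) := IsZariskiLocalAtTarget.restrict (P := @Flat) inferInstance U
  haveI : Surjective (f ∣_ U) := IsZariskiLocalAtTarget.restrict (P := @Surjective) inferInstance U
  refine fact_of_cover U.ι (f ∣_ U) ?_
  rw [morphismRestrict_ι]
  refine fact_of_local _ fun x => ?_
  let q := (f ⁻¹ᵁ U).ι x
  obtain ⟨p, hp⟩ := (hV q).range_fromSpec.ge (hqV q)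
  have hcp : c q ≤ p.asIdeal := (hT q p).mp (by rw [hp]; exact x.2)
  obtain ⟨a, ha, htr⟩ := hA q p hcp
  let o := Spec.map (CommRingCat.ofHom (algebraMap Γ(S', V q) (Localization.Away a))) ≫ (hV q).fromSpec
  haveI : IsOpenImmersion (Spec.map (CommRingCat.ofHom (algebraMap Γ(S', V q) (Localization.Away a)))) :=
    IsOpenImmersion.of_isLocalization a
  haveI : IsOpenImmersion o := inferInstance
  refine ⟨(f ⁻¹ᵁ U).ι ⁻¹ᵁ o.opensRange, ?_, ?_⟩
  · obtain ⟨z, hz⟩ := (PrimeSpectrum.localization_away_comap_range (Localization.Away a) a).ge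
      (show p ∈ (PrimeSpectrum.basicOpen a : Set (PrimeSpectrum Γ(S', V q))) from ha)
    refine ⟨z, ?_⟩
    show (hV q).fromSpec (Spec.map (CommRingCat.ofHom (algebraMap Γ(S', V q) (Localization.Away a))) z) = q
    exact (congrArg (hV q).fromSpec hz).trans hp
  · let k := IsOpenImmersion.lift o (((f ⁻¹ᵁ U).ι ⁻¹ᵁ o.opensRange).ι ≫ (f ⁻¹ᵁ U).ι) (by
      rintro _ ⟨y, rfl⟩; exact y.2)
    have := htr.comp k
    rw [← Category.assoc (Spec.map _) (hV q).fromSpec f, ← Category.assoc k] at this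
    rw [IsOpenImmersion.lift_fac, Category.assoc] at this
    exact this

end Groth.Agent.FactLocus
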