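import Groth.Agent.FactLocus.Algebra
import Groth.Agent.CoeffLocus.Basic

/-!
Points of `D(M)` which factor through a subgroup given by an immersion into `Spec A[M]`.
-/

universe u

open CategoryTheory Limits AlgebraicGeometry
open Groth.Agent.DiagGrp MonoidAlgebra

set_option linter.style.haveILetI false
set_option backward.isDefEq.respectTransparency false

noncomputable section

namespace Groth.Agent.FactLocus

theorem exists_ker_criterion {R : Type u} [CommRing R] {E : Scheme.{u}} (f : E ⟶ Spec (CommRingCat.of R))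
    [IsClosedImmersion f] : ∃ I : Ideal R, (LocallyOfFinitePresentation f → I.FG) ∧
      ∀ (C : Type u) [CommRing C] (k : R →+* C),
        (∃ e, e ≫ f = Spec.map (CommRingCat.ofHom k)) ↔ I ≤ RingHom.ker k := by
  obtain ⟨I, eI, hE⟩ := (IsClosedImmersion.Spec_iff (R := CommRingCat.of R) (f := f)).mp inferInstance
  have hEinv : Spec.map (CommRingCat.ofHom (Ideal.Quotient.mk I)) = eI.inv ≫ f := by
    rw [hE, Iso.inv_hom_id_assoc]
  refine ⟨I, fun hf => ?_, fun C _ k => ⟨?_, fun hle => ?_⟩⟩
  · haveI : LocallyOfFinitePresentation (Spec.map (CommRingCat.ofHom (Ideal.Quotient.mk I))) := by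
      rw [hEinv]; infer_instance
    have hfp : (Ideal.Quotient.mk I).FinitePresentation :=
      (LocallyOfFinitePresentation.SpecMap_iff (CommRingCat.ofHom (Ideal.Quotient.mk I))).mp inferInstance
    haveI : Algebra.FinitePresentation R (R ⧸ I) := by
      have h := hfp
      rw [RingHom.FinitePresentation] at h
      convert h using 1
    have h := Algebra.FinitePresentation.ker_fG_of_surjective (Ideal.Quotient.mkₐ R I) Ideal.Quotient.mk_surjective
    rwa [show RingHom.ker (Ideal.Quotient.mkₐ R I).toRingHom = I from Ideal.mk_ker] at h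
  · rintro ⟨e, he⟩ x hx
    have hl : Spec.map (CommRingCat.ofHom (Ideal.Quotient.mk I) ≫ Spec.preimage (e ≫ eI.hom)) =
        Spec.map (CommRingCat.ofHom k) := by
      rw [Spec.map_comp, Spec.map_preimage, hEinv, Category.assoc, Iso.hom_inv_id_assoc, he]
    have := congrArg (fun g => g.hom x) (Spec.map_injective hl)
    simp only [CommRingCat.hom_comp, CommRingCat.hom_ofHom, RingHom.comp_apply,
      Ideal.Quotient.eq_zero_iff_mem.mpr hx, map_zero] at this
    exact this.symm
  · refine ⟨Spec.map (CommRingCat.ofHom (Ideal.Quotient.lift I k hle)) ≫ eI.inv, ?_⟩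
    rw [Category.assoc, ← hEinv, ← Spec.map_comp, ← CommRingCat.ofHom_comp, Ideal.Quotient.lift_comp_mk]

theorem incl_eq_mapRingHom (A : Type u) [CommRing A] (B : Type u) [CommRing B] [Algebra A B] (M : Type) [CommGroup M] :
    (incl A B M : MonoidAlgebra A M →+* MonoidAlgebra B M) = mapRingHom M (algebraMap A B) :=
  MonoidAlgebra.ringHom_ext (fun r => by simp [incl, Algebra.smul_def]) (fun m => by simp)

variable {A : Type u} [CommRing A] {M : Type} [CommGroup M] {E : Scheme.{u}}

/-- the point factors through `ι` -/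
def Fac (ι : E ⟶ Spec (CommRingCat.of (MonoidAlgebra A M))) {C : Type u} [CommRing C]
    (x : MonoidAlgebra A M →+* C) : Prop :=
  ∃ e : Spec (CommRingCat.of C) ⟶ E, e ≫ ι = Spec.map (CommRingCat.ofHom x)

/-- all points above the algebra factor through `ι` -/
def AllFac (ι : E ⟶ Spec (CommRingCat.of (MonoidAlgebra A M))) (B : Type u) [CommRing B] [Algebra A B] : Prop :=
  Fac ι (mapRingHom M (algebraMap A B))

/-- the points which factor are closed under the product -/
def MulClosed (ι : E ⟶ Spec (CommRingCat.of (MonoidAlgebra A M))) : Prop :=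
  ∀ (C : Type u) [CommRing C] [Algebra A C] (x y : MonoidAlgebra A M →ₐ[A] C),
    Fac ι (x : MonoidAlgebra A M →+* C) → Fac ι (y : MonoidAlgebra A M →+* C) →
      Fac ι (conv x y : MonoidAlgebra A M →+* C)

variable {ι : E ⟶ Spec (CommRingCat.of (MonoidAlgebra A M))}

theorem Fac.comp {C D : Type u} [CommRing C] [CommRing D] {x : MonoidAlgebra A M →+* C} (h : Fac ι x)
    (g : C →+* D) : Fac ι (g.comp x) := by
  obtain ⟨e, he⟩ := h
  exact ⟨Spec.map (CommRingCat.ofHom g) ≫ e, by rw [Category.assoc, he, ← Spec.map_comp]; rfl⟩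

theorem Fac.mem_range {C : Type u} [CommRing C] {x : MonoidAlgebra A M →+* C} (h : Fac ι x) :
    Set.range (Spec.map (CommRingCat.ofHom x)) ⊆ Set.range ι := by
  obtain ⟨e, he⟩ := h
  rw [← he, Scheme.Hom.comp_base, TopCat.coe_comp]
  exact Set.range_comp_subset_range _ _

theorem AllFac.point {B C : Type u} [CommRing B] [Algebra A B] [CommRing C] [Algebra A C] [Algebra B C]
    [IsScalarTower A B C] (h : AllFac ι B) : AllFac ι C := by
  have := h.comp (mapRingHom M (algebraMap B C))
  rwa [← mapRingHom_comp, ← IsScalarTower.algebraMap_eq] at this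

theorem fac_comp_iff {B : Type u} [CommRing B] (φ : MonoidAlgebra A M →+* B) {C : Type u} [CommRing C] (k : B →+* C) :
    Fac ι (k.comp φ) ↔ ∃ e, e ≫ pullback.snd ι (Spec.map (CommRingCat.ofHom φ)) = Spec.map (CommRingCat.ofHom k) := by
  constructor
  · rintro ⟨e, he⟩
    exact ⟨pullback.lift e (Spec.map (CommRingCat.ofHom k)) (by rw [he, ← Spec.map_comp]; rfl), pullback.lift_snd _ _ _⟩
  · rintro ⟨e, he⟩
    refine ⟨e ≫ pullback.fst _ _, ?_⟩
    rw [Category.assoc, pullback.condition, reassoc_of% he, ← Spec.map_comp]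
    rfl

variable [IsImmersion ι]

theorem isClosedImmersion_snd_of_range_le {Y : Scheme.{u}} (g : Y ⟶ Spec (CommRingCat.of (MonoidAlgebra A M)))
    (h : Set.range g ⊆ ι.coborderRange) : IsClosedImmersion (pullback.snd ι g) := by
  let g' : Y ⟶ ι.coborderRange := IsOpenImmersion.lift ι.coborderRange.ι g (by simpa using h)
  have hg : g' ≫ ι.coborderRange.ι = g := IsOpenImmersion.lift_fac _ _ _
  refine IsClosedImmersion.of_isPreimmersion _ ?_
  rw [Scheme.Pullback.range_snd]
  have he : g ⁻¹' Set.range ι = g' ⁻¹' Set.range ι.liftCoborder := by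
    have h1 : Set.range ι = ι.coborderRange.ι '' Set.range ι.liftCoborder := by
      rw [← Set.range_comp, ← TopCat.coe_comp, ← Scheme.Hom.comp_base, Scheme.Hom.liftCoborder_ι]
    rw [h1, ← hg, Scheme.Hom.comp_base, TopCat.coe_comp, Set.preimage_comp,
      Set.preimage_image_eq _ ι.coborderRange.ι.isOpenEmbedding.injective]
  rw [he]
  exact ι.liftCoborder.isClosedEmbedding.isClosed_range.preimage g'.continuous

theorem range_subset_coborder : Set.range ι ⊆ (ι.coborderRange : Set _) := subset_coborder

/-- the open in which `ι` is closed -/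
abbrev wSet (ι : E ⟶ Spec (CommRingCat.of (MonoidAlgebra A M))) [IsImmersion ι] : Set (PrimeSpectrum (MonoidAlgebra A M)) :=
  ι.coborderRange.carrier

variable (ι) in
/-- the ideal of the complement of the open in which `ι` is closed -/
theorem exists_coborder_ideal : ∃ J : Ideal (MonoidAlgebra A M),
    (wSet ι) = (PrimeSpectrum.zeroLocus (J : Set (MonoidAlgebra A M)))ᶜ := by
  obtain ⟨J, hJ⟩ := (PrimeSpectrum.isClosed_iff_zeroLocus_ideal _).mp
    (show IsClosed ((wSet ι))ᶜ from ι.coborderRange.isOpen.isClosed_compl)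
  exact ⟨J, by rw [← hJ, compl_compl]⟩

theorem map_coborder_eq_top {J : Ideal (MonoidAlgebra A M)}
    (hJ : (wSet ι) = (PrimeSpectrum.zeroLocus (J : Set (MonoidAlgebra A M)))ᶜ)
    {C : Type u} [CommRing C] {x : MonoidAlgebra A M →+* C} (h : Fac ι x) : J.map x = ⊤ := by
  by_contra hne
  obtain ⟨P, hP, hle⟩ := Ideal.exists_le_maximal _ hne
  have h1 : Spec.map (CommRingCat.ofHom x) (⟨P, hP.isPrime⟩ : PrimeSpectrum C) ∈ wSet ι :=
    range_subset_coborder (h.mem_range ⟨_, rfl⟩)
  rw [hJ] at h1
  exact h1 fun j hj => hle (Ideal.mem_map_of_mem x hj)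

theorem range_le_of_map_eq_top {J : Ideal (MonoidAlgebra A M)}
    (hJ : (wSet ι) = (PrimeSpectrum.zeroLocus (J : Set (MonoidAlgebra A M)))ᶜ)
    {C : Type u} [CommRing C] (x : MonoidAlgebra A M →+* C) (h : J.map x = ⊤) :
    Set.range (Spec.map (CommRingCat.ofHom x)) ⊆ ι.coborderRange := by
  rintro _ ⟨P, rfl⟩
  show _ ∈ wSet ι
  rw [hJ]
  intro hP
  exact (P : PrimeSpectrum C).isPrime.ne_top (top_le_iff.mp (h ▸ Ideal.map_le_iff_le_comap.mpr fun j hj => hP hj))

/-- A subgroup which contains, above every field, a dense open of `D(M)` contains every point. -/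
theorem surjective_of_dense (hmul : MulClosed ι) (B : Type u) [CommRing B] [Algebra A B]
    (hL : ∀ (L : Type u) [Field L] [Algebra A L] [Algebra B L] [IsScalarTower A B L],
      ∃ f : MonoidAlgebra L M, (∀ g, f * g = 0 → g = 0) ∧
        ∀ (C : Type u) [CommRing C] (k : MonoidAlgebra L M →+* C), IsUnit (k f) →
          Fac ι (k.comp (mapRingHom M (algebraMap A L)))) :
    Surjective (pullback.snd ι (Spec.map (CommRingCat.ofHom (mapRingHom M (algebraMap A B))))) := by
  refine ⟨fun P => ?_⟩
  let P' : PrimeSpectrum (MonoidAlgebra B M) := P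
  let L := P'.asIdeal.ResidueField
  obtain ⟨f, hf, hfac⟩ := hL L
  let x : MonoidAlgebra B M →ₐ[B] L := IsScalarTower.toAlgHom B (MonoidAlgebra B M) L
  let φ : MonoidAlgebra L M →ₐ[L] MonoidAlgebra L M := MonoidAlgebra.lift L _ M
    { toFun := fun m => single m⁻¹ (x (single m 1))
      map_one' := by simp [← MonoidAlgebra.one_def]
      map_mul' := fun m n => by rw [single_mul_single, mul_inv, ← map_mul, single_mul_single, one_mul] }
  have hφ : ∀ z, φ (φ z) = z := fun z => by
    suffices φ.comp φ = AlgHom.id L _ from DFunLike.congr_fun this z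
    refine Groth.Agent.DiagAction.algHom_ext_single fun m => ?_
    rw [AlgHom.comp_apply, AlgHom.id_apply]
    simp only [φ, lift_single, one_smul, MonoidHom.coe_mk, OneHom.coe_mk, inv_inv, smul_single', ← map_mul,
      single_mul_single, mul_one]
    rw [_root_.mul_inv_cancel, ← MonoidAlgebra.one_def, map_one]
  have hff : ¬ IsNilpotent (f * φ f) := by
    rintro ⟨n, hn⟩
    have hnz : ∀ g, (f * φ f) * g = 0 → g = 0 := fun g hg => by
      have h1 := hf (φ f * g) (by rw [← mul_assoc, hg])
      have h2 := congrArg φ h1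
      rw [map_mul, hφ, map_zero] at h2
      have h3 := congrArg φ (hf _ h2)
      rwa [hφ, map_zero] at h3
    have : ∀ k g, (f * φ f) ^ k * g = 0 → g = 0 := by
      intro k
      induction k with
      | zero => intro g hg; simpa using hg
      | succ k ih => intro g hg; rw [pow_succ, mul_assoc] at hg; exact hnz _ (ih _ hg)
    exact one_ne_zero (this n 1 (by rw [hn, zero_mul]))
  rw [nilpotent_iff_mem_prime] at hff
  push Not at hff
  obtain ⟨Q, hQ, hfQ⟩ := hff
  let L' := Q.ResidueField
  let k₁ : MonoidAlgebra L M →ₐ[L] L' := IsScalarTower.toAlgHom L (MonoidAlgebra L M) L'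
  have hne : k₁ f ≠ 0 ∧ k₁ (φ f) ≠ 0 := by
    have h : k₁ (f * φ f) ≠ 0 := fun h => hfQ (Ideal.algebraMap_residueField_eq_zero.mp h)
    rw [map_mul] at h
    exact ⟨left_ne_zero_of_mul h, right_ne_zero_of_mul h⟩
  let a₁ : MonoidAlgebra A M →ₐ[A] L' := (k₁.restrictScalars A).comp (incl A L M)
  let a₂ : MonoidAlgebra A M →ₐ[A] L' := ((k₁.comp φ).restrictScalars A).comp (incl A L M)
  have h₁ : Fac ι (a₁ : MonoidAlgebra A M →+* L') := by
    have := hfac L' (k₁ : MonoidAlgebra L M →+* L') (isUnit_iff_ne_zero.mpr hne.1)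
    rw [← incl_eq_mapRingHom] at this
    exact this
  have h₂ : Fac ι (a₂ : MonoidAlgebra A M →+* L') := by
    have := hfac L' ((k₁.comp φ : MonoidAlgebra L M →ₐ[L] L') : MonoidAlgebra L M →+* L') (isUnit_iff_ne_zero.mpr hne.2)
    rw [← incl_eq_mapRingHom] at this
    exact this
  have h3 := hmul L' a₁ a₂ h₁ h₂
  have he : conv a₁ a₂ = (((IsScalarTower.toAlgHom A L L')).comp (x.restrictScalars A)).comp (incl A B M) := by
    refine Groth.Agent.DiagAction.algHom_ext_single fun m => ?_
    simp only [conv_single, a₁, a₂, AlgHom.comp_apply, incl_single, AlgHom.restrictScalars_apply, φ, lift_single,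
      one_smul, MonoidHom.coe_mk, OneHom.coe_mk, IsScalarTower.coe_toAlgHom']
    rw [← map_mul, single_mul_single, mul_inv_cancel, one_mul,
      show single (1 : M) (x (single m 1)) = algebraMap L (MonoidAlgebra L M) (x (single m 1)) from rfl, AlgHom.commutes]
  rw [he] at h3
  have h4 : Fac ι (((algebraMap L L').comp (x : MonoidAlgebra B M →+* L)).comp (mapRingHom M (algebraMap A B))) := by
    rw [← incl_eq_mapRingHom]; exact h3
  obtain ⟨e, he'⟩ := (fac_comp_iff _ _).mp h4
  let z : Spec (CommRingCat.of L') := IsLocalRing.closedPoint L'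
  refine ⟨e z, ?_⟩
  rw [← Scheme.Hom.comp_apply, he']
  refine PrimeSpectrum.ext (Ideal.ext fun w => ?_)
  show algebraMap L L' (x w) ∈ IsLocalRing.maximalIdeal L' ↔ w ∈ P'.asIdeal
  rw [IsLocalRing.maximalIdeal_eq_bot, Ideal.mem_bot, map_eq_zero_iff _ (algebraMap L L').injective]
  exact Ideal.algebraMap_residueField_eq_zero

/-- a surjective subgroup over `B` is cut out by an ideal -/
theorem exists_ideal_of_surjective (B : Type u) [CommRing B] [Algebra A B]
    (hs : Surjective (pullback.snd ι (Spec.map (CommRingCat.ofHom (mapRingHom M (algebraMap A B)))))) :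
    ∃ I : Ideal (MonoidAlgebra B M), ∀ (C : Type u) [CommRing C] (k : MonoidAlgebra B M →+* C),
      Fac ι (k.comp (mapRingHom M (algebraMap A B))) ↔ I ≤ RingHom.ker k := by
  haveI := hs
  haveI : IsClosedImmersion (pullback.snd ι (Spec.map (CommRingCat.ofHom (mapRingHom M (algebraMap A B))))) := by
    refine IsClosedImmersion.of_isPreimmersion _ ?_
    rw [Scheme.Hom.surjective (pullback.snd ι (Spec.map (CommRingCat.ofHom (mapRingHom M (algebraMap A B))))) |>.range_eq]
    exact isClosed_univ
  obtain ⟨I, -, hI⟩ := exists_ker_criterion (pullback.snd ι (Spec.map (CommRingCat.ofHom (mapRingHom M (algebraMap A B)))))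
  exact ⟨I, fun C _ k => (fac_comp_iff _ _).trans (hI C k)⟩

/-- a subgroup which contains a schematically dense open contains everything -/
theorem allFac_of_dense (hmul : MulClosed ι) (B : Type u) [CommRing B] [Algebra A B] (f : MonoidAlgebra B M)
    (hf : ∀ g, f * g = 0 → g = 0)
    (hfL : ∀ (L : Type u) [Field L] [Algebra B L] (g : MonoidAlgebra L M), mapRingHom M (algebraMap B L) f * g = 0 → g = 0)
    (hfac : ∀ (C : Type u) [CommRing C] (k : MonoidAlgebra B M →+* C), IsUnit (k f) →
      Fac ι (k.comp (mapRingHom M (algebraMap A B)))) :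
    AllFac ι B := by
  have hs := surjective_of_dense hmul B fun L _ _ _ _ => ⟨_, hfL L, fun C _ k hk => by
    have := hfac C (k.comp (mapRingHom M (algebraMap B L))) hk
    rwa [RingHom.comp_assoc, ← mapRingHom_comp, ← IsScalarTower.algebraMap_eq] at this⟩
  obtain ⟨I, hI⟩ := exists_ideal_of_surjective B hs
  have h0 : I ≤ RingHom.ker (RingHom.id (MonoidAlgebra B M)) := by
    intro g hg
    have h1 := (hI (Localization.Away f) (algebraMap _ _)).mp
      (hfac _ _ (IsLocalization.Away.algebraMap_isUnit f)) hg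
    obtain ⟨⟨s, n, rfl⟩, hs⟩ := (IsLocalization.map_eq_zero_iff (Submonoid.powers f) _ g).mp h1
    have : ∀ k g, f ^ k * g = 0 → g = 0 := by
      intro k
      induction k with
      | zero => intro g hg; simpa using hg
      | succ k ih => intro g hg; rw [pow_succ, mul_assoc] at hg; exact hf _ (ih _ hg)
    exact this n g hs
  have := (hI _ _).mpr h0
  rwa [RingHom.id_comp] at this

end Groth.Agent.FactLocus
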