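import Mathlib

/-!
Algebra in group algebras for the factorisation locus: non-zero-divisors congruent to one, separation by the
finite quotients `M / M^n`, coefficient ideals.
-/

universe u

set_option linter.style.haveILetI false
set_option backward.isDefEq.respectTransparency false

noncomputable section

namespace Groth.Agent.FactLocus

open MonoidAlgebra

variable {A : Type u} [CommRing A] {M : Type} [CommGroup M]

theorem exists_coeffIdeal (I : Ideal (MonoidAlgebra A M)) : ∃ c : Ideal A, ∀ (B : Type u) [CommRing B] (f : A →+* B),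
    I ≤ RingHom.ker (mapRingHom M f) ↔ c ≤ RingHom.ker f := by
  refine ⟨Ideal.span {a | ∃ x ∈ I, ∃ m, x.coeff m = a}, fun B _ f => ⟨fun h => ?_, fun h x hx => ?_⟩⟩
  · refine Ideal.span_le.mpr ?_
    rintro a ⟨x, hx, m, rfl⟩
    have h1 := congrArg (fun w => w.coeff m) (RingHom.mem_ker.mp (h hx))
    simpa using h1
  · refine RingHom.mem_ker.mpr (MonoidAlgebra.ext (Finsupp.ext fun m => ?_))
    simpa using RingHom.mem_ker.mp (h (Ideal.subset_span ⟨x, hx, m, rfl⟩))

/-- An element congruent to one modulo the maximal ideal is a non-zero-divisor after every extension. -/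
theorem eq_zero_of_map_mul_eq_zero [IsLocalRing A] (f : MonoidAlgebra A M)
    (hf : ∀ m, (f - 1).coeff m ∈ IsLocalRing.maximalIdeal A) (B : Type u) [CommRing B] [Algebra A B]
    (g : MonoidAlgebra B M) (h : mapRingHom M (algebraMap A B) f * g = 0) : g = 0 := by
  classical
  let N : Submodule A B := Submodule.span A (g.coeff.support.image g.coeff : Set B)
  have hmem : ∀ b, g.coeff b ∈ N := fun b => by
    by_cases hb : b ∈ g.coeff.support
    · exact Submodule.subset_span (Finset.mem_image.mpr ⟨b, hb, rfl⟩)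
    · rw [Finsupp.notMem_support_iff.mp hb]; exact zero_mem _
  let P : Submodule A B := IsLocalRing.maximalIdeal A • N
  have key : ∀ b, (mapRingHom M (algebraMap A B) (f - 1) * g).coeff b ∈ P := fun b => by
    rw [← sum_coeff_single (f - 1), Finsupp.sum, map_sum, Finset.sum_mul, coeff_sum, Finsupp.finsetSum_apply]
    refine Submodule.sum_mem _ fun a _ => ?_
    rw [mapRingHom_single, coeff_single_mul_eq_mul_coeff (a⁻¹ * b) (fun d _ => eq_inv_mul_iff_mul_eq.symm),
      ← Algebra.smul_def]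
    exact Submodule.smul_mem_smul (hf a) (hmem _)
  have hneg : mapRingHom M (algebraMap A B) (f - 1) * g = -g := by
    rw [map_sub, map_one, sub_mul, h, one_mul, zero_sub]
  have hN : N ≤ P := Submodule.span_le.mpr fun x hx => by
    obtain ⟨b, -, rfl⟩ := Finset.mem_image.mp hx
    have h1 := key b
    rw [hneg, coeff_neg, Finsupp.neg_apply] at h1
    exact neg_mem_iff.mp h1
  have h0 : N = ⊥ := Submodule.eq_bot_of_le_smul_of_le_jacobson_bot _ N (Submodule.fg_span (Finset.finite_toSet _)) hN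
    (IsLocalRing.maximalIdeal_le_jacobson _)
  exact MonoidAlgebra.ext (Finsupp.ext fun b => by simpa [h0] using hmem b)

/-- the quotient by the `n`-th powers -/
abbrev Qn (M : Type) [CommGroup M] (n : ℕ) : Type := M ⧸ (powMonoidHom n : M →* M).range

theorem exists_notMem_range_pow [Group.FG M] {x : M} (hx : x ≠ 1) :
    ∃ n, 0 < n ∧ x ∉ (powMonoidHom n : M →* M).range := by
  haveI : AddGroup.FG (Additive M) := GroupFG.iff_add_fg.mp inferInstance
  haveI : Module.Finite ℤ (Additive M) := Module.Finite.iff_addGroup_fg.mpr inferInstance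
  let a : Additive M := Additive.ofMul x
  have ha : a ≠ 0 := fun h => hx h
  have hne : LinearMap.ker (LinearMap.toSpanSingleton ℤ (Additive M) a) ≠ ⊤ := by
    intro h
    have : (1 : ℤ) ∈ LinearMap.ker (LinearMap.toSpanSingleton ℤ (Additive M) a) := h ▸ Submodule.mem_top
    simp at this
    exact ha this
  obtain ⟨𝔪, h𝔪, hle⟩ := Ideal.exists_le_maximal _ hne
  obtain ⟨ℓ, rfl⟩ : ∃ ℓ : ℤ, 𝔪 = Ideal.span {ℓ} :=
    ⟨Submodule.IsPrincipal.generator 𝔪, (Ideal.span_singleton_generator 𝔪).symm⟩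
  have hℓ : ℓ ≠ 0 := fun h => by
    subst h
    refine (Ring.ne_bot_of_isMaximal_of_not_isField h𝔪 Int.not_isField) ?_
    simp
  have hnot : a ∉ (⨅ i : ℕ, Ideal.span {ℓ} ^ i • ⊤ : Submodule ℤ (Additive M)) := fun h => by
    obtain ⟨r, hr⟩ := (Ideal.mem_iInf_smul_pow_eq_bot_iff _ a).mp h
    have h1 : (r : ℤ) - 1 ∈ LinearMap.ker (LinearMap.toSpanSingleton ℤ (Additive M) a) := by
      simp [sub_smul, hr]
    refine h𝔪.ne_top ((Ideal.eq_top_iff_one _).mpr ?_)
    have h2 : (r : ℤ) - ((r : ℤ) - 1) ∈ Ideal.span {ℓ} := sub_mem r.2 (hle h1)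
    simpa using h2
  simp only [Submodule.mem_iInf, not_forall] at hnot
  obtain ⟨i, hi⟩ := hnot
  refine ⟨ℓ.natAbs ^ i, pow_pos (Int.natAbs_pos.mpr hℓ) i, fun ⟨y, hy⟩ => hi ?_⟩
  have hy' : y ^ (ℓ.natAbs ^ i) = x := hy
  have h1 : ((ℓ.natAbs : ℤ) ^ i) • Additive.ofMul y = a := by
    rw [← Nat.cast_pow, natCast_zsmul, ← ofMul_pow, hy']
  rw [← h1]
  refine Submodule.smul_mem_smul (Ideal.pow_mem_pow ?_ i) Submodule.mem_top
  rw [Ideal.mem_span_singleton]
  exact Int.dvd_natAbs.mpr dvd_rfl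

theorem exists_separating [Group.FG M] (F : Finset M) :
    ∃ n, 0 < n ∧ Set.InjOn (QuotientGroup.mk (s := (powMonoidHom n : M →* M).range)) (F : Set M) := by
  classical
  have hch : ∀ p : M × M, ∃ n, 0 < n ∧ (p.1⁻¹ * p.2 ∈ (powMonoidHom n : M →* M).range → p.1 = p.2) := fun p => by
    by_cases h : p.1 = p.2
    · exact ⟨1, one_pos, fun _ => h⟩
    · obtain ⟨n, hn, hn'⟩ := exists_notMem_range_pow (x := p.1⁻¹ * p.2) (fun e => h (inv_mul_eq_one.mp e))
      exact ⟨n, hn, fun e => absurd e hn'⟩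
  choose n hn hn' using hch
  refine ⟨∏ p ∈ F ×ˢ F, n p, Finset.prod_pos fun p _ => hn p, fun a ha b hb e => ?_⟩
  obtain ⟨y, hy⟩ := QuotientGroup.eq.mp e
  refine hn' (a, b) ?_
  obtain ⟨k, hk⟩ := Finset.dvd_prod_of_mem n (Finset.mk_mem_product ha hb)
  refine ⟨y ^ k, ?_⟩
  rw [← hy]
  simp only [powMonoidHom_apply]
  rw [← pow_mul, hk, mul_comm]

theorem eq_zero_of_quotients [Group.FG M] (g : MonoidAlgebra A M)
    (h : ∀ n, 0 < n → mapDomainRingHom A (QuotientGroup.mk' (powMonoidHom n : M →* M).range) g = 0) : g = 0 := by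
  obtain ⟨n, hn, hinj⟩ := exists_separating g.coeff.support
  refine MonoidAlgebra.ext (Finsupp.ext fun m => ?_)
  by_contra hm
  have hm' : m ∈ g.coeff.support := Finsupp.mem_support_iff.mpr hm
  have h1 := congrArg (fun w => w.coeff (QuotientGroup.mk' (powMonoidHom n : M →* M).range m)) (h n hn)
  refine hm (Eq.trans (Eq.symm ?_) h1)
  show (Finsupp.mapDomain (QuotientGroup.mk' (powMonoidHom n : M →* M).range) g.coeff) _ = _
  exact Finsupp.mapDomain_apply' _ g.coeff (Set.Subset.refl _) hinj hm'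

theorem exists_nonZeroDivisor_mem {R : Type*} [CommRing R] [IsNoetherianRing R] (J : Ideal R)
    (h : ∀ g : R, (∀ j ∈ J, j * g = 0) → g = 0) : ∃ f ∈ J, ∀ g, f * g = 0 → g = 0 := by
  classical
  by_contra hno
  push Not at hno
  have hfin := associatedPrimes.finite R R
  have hsub : (J : Set R) ⊆ ⋃ P ∈ (hfin.toFinset : Set (Ideal R)), (P : Set R) := fun f hf => by
    rw [Set.Finite.coe_toFinset, biUnion_associatedPrimes_eq_zero_divisors]
    obtain ⟨g, hg, hg0⟩ := hno f hf
    exact ⟨g, hg0, hg⟩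
  obtain ⟨P, hP, hle⟩ := (Ideal.subset_union_prime (f := fun i => i) ⊥ ⊥ (fun i hi _ _ => by
    exact (AssociatedPrimes.mem_iff.mp (hfin.mem_toFinset.mp hi)).isPrime)).mp hsub
  obtain ⟨hPp, x, hx⟩ := isAssociatedPrime_iff.mp (AssociatedPrimes.mem_iff.mp (hfin.mem_toFinset.mp hP))
  have hx0 : x = 0 := h x fun j hj => by
    have : j ∈ Submodule.colon (⊥ : Submodule R R) {x} := hx ▸ hle hj
    simpa using Submodule.mem_colon_singleton.mp this
  exact hPp.ne_top (hx.trans (by rw [hx0]; simp))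

/-- clearing denominators -/
theorem exists_scalar_mem {B : Type u} [CommRing B] (φ : A →+* B) (p : Ideal A) [p.IsPrime]
    (hden : ∀ b : B, ∃ x a : A, a ∉ p ∧ b * φ a = φ x) (J : Ideal (MonoidAlgebra A M))
    (z : MonoidAlgebra B M) (hz : z ∈ J.map (mapRingHom M φ)) :
    ∃ a ∉ p, ∃ j ∈ J, mapRingHom M φ j = z * single 1 (φ a) := by
  induction hz using Submodule.span_induction with
  | mem y hy =>
    obtain ⟨j, hj, rfl⟩ := hy
    exact ⟨1, p.ne_top_iff_one.mp ‹p.IsPrime›.ne_top, j, hj, by simp [← one_def]⟩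
  | zero => exact ⟨1, p.ne_top_iff_one.mp ‹p.IsPrime›.ne_top, 0, zero_mem _, by simp⟩
  | add y w _ _ hy hw =>
    obtain ⟨a, ha, j, hj, e⟩ := hy
    obtain ⟨b, hb, k, hk, e'⟩ := hw
    refine ⟨a * b, fun h => (‹p.IsPrime›.mem_or_mem h).elim ha hb,
      j * single 1 b + k * single 1 a, add_mem (Ideal.mul_mem_right _ _ hj) (Ideal.mul_mem_right _ _ hk), ?_⟩
    rw [map_add, map_mul, map_mul, e, e', mapRingHom_single, mapRingHom_single, mul_assoc, mul_assoc,
      single_mul_single, single_mul_single, add_mul]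
    simp [mul_comm]
  | smul r y _ hy =>
    obtain ⟨a, ha, j, hj, e⟩ := hy
    obtain ⟨c, hc, r', hr'⟩ : ∃ c ∉ p, ∃ r' : MonoidAlgebra A M, mapRingHom M φ r' = r * single 1 (φ c) := by
      induction r using MonoidAlgebra.induction_linear with
      | zero => exact ⟨1, p.ne_top_iff_one.mp ‹p.IsPrime›.ne_top, 0, by simp⟩
      | add r₁ r₂ h₁ h₂ =>
        obtain ⟨c₁, hc₁, s₁, e₁⟩ := h₁
        obtain ⟨c₂, hc₂, s₂, e₂⟩ := h₂
        refine ⟨c₁ * c₂, fun h => (‹p.IsPrime›.mem_or_mem h).elim hc₁ hc₂, s₁ * single 1 c₂ + s₂ * single 1 c₁, ?_⟩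
        rw [map_add, map_mul, map_mul, e₁, e₂, mapRingHom_single, mapRingHom_single, mul_assoc, mul_assoc,
          single_mul_single, single_mul_single, add_mul]
        simp [mul_comm]
      | single m b =>
        obtain ⟨x, c, hc, e₁⟩ := hden b
        exact ⟨c, hc, single m x, by rw [mapRingHom_single, single_mul_single, e₁, mul_one]⟩
    refine ⟨c * a, fun h => (‹p.IsPrime›.mem_or_mem h).elim hc ha, r' * j, Ideal.mul_mem_left _ _ hj, ?_⟩
    rw [map_mul, hr', e, smul_eq_mul, map_mul φ, show (single (1:M) (φ c * φ a)) = single 1 (φ c) * single 1 (φ a) by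
      rw [single_mul_single, one_mul]]
    ring

end Groth.Agent.FactLocus
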