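import Groth.Agent.FactLocus.FibreEqual
import Groth.Agent.GrpSchField.ConnComp
import Groth.Agent.GrpSchField.Orbit

/-!
Where a homomorphism from a group of multiplicative type is central.
-/

universe u

open CategoryTheory Limits MonoidalCategory CartesianMonoidalCategory MonObj GrpObj AlgebraicGeometry
open CoactBr Groth.Agent.DiagGrp Groth.Agent.DiagAction Groth.Agent.CentralDescent

set_option linter.style.haveILetI false
set_option backward.isDefEq.respectTransparency false

noncomputable section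

namespace Groth.Agent.FactLocus

variable {S : Scheme.{u}} {H G : Over S} [GrpObj H] [GrpObj G] {u : H ⟶ G}

/-- a point commuting with `u` near a point above which `u` is central -/
theorem exists_nhd_comm (hH : SGA3x.IsMultTypeFT H) [LocallyOfFinitePresentation G.hom] [IsMonHom u] {X : Over S}
    (g : X ⟶ G) (x : X.left) (hc : Cent u (S.fromSpecResidueField (X.hom x))) :
    ∃ W : X.left.Opens, x ∈ W ∧ ∀ (Y : Over S) (k : Y ⟶ X), Set.range k.left ⊆ (W : Set X.left) →
      ∀ h : Y ⟶ H, (k ≫ g) * (h ≫ u) = (h ≫ u) * (k ≫ g) := by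
  let t := X.hom
  let gY (Z : Over X.left) : (Over.map t).obj Z ⟶ G := (Over.homMk Z.hom : (Over.map t).obj Z ⟶ X) ≫ g
  have hgY : ∀ (Z Z' : Over X.left) (a : Z ⟶ Z'), (Over.map t).map a ≫ gY Z' = gY Z := fun Z Z' a => by
    rw [← Category.assoc]
    congr 1
    exact Over.OverMorphism.ext (Over.w a)
  let ub := (Over.pullback t).map u
  let c : Red.bc t H ⟶ Red.bc t G := upP t (gY _) * ub * (upP t (gY _))⁻¹
  have hpt : ∀ (Z : Over X.left) (a : Z ⟶ Red.bc t H), downP t (a ≫ c) = gY Z * (downP t a ≫ u) * (gY Z)⁻¹ := by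
    intro Z a
    have h1 : downP t (a ≫ upP t (gY _)) = gY Z := by rw [downP_comp, downP_upP, hgY]
    simp only [c, MonObj.comp_mul, GrpObj.comp_inv]
    rw [eq_mul_inv_iff_mul_eq, ← h1, ← downP_comp_map, ← downP_mul, ← downP_mul, inv_mul_cancel_right]
  haveI : IsMonHom c := isMonHom_of_mul c fun Z a b => by
    apply (Over.mapPullbackAdj t).homEquiv _ _ |>.symm.injective
    show downP t _ = downP t _
    rw [hpt, downP_mul, downP_mul, MonObj.mul_comp, hpt, hpt]
    group
  haveI : LocallyOfFinitePresentation (Red.bc t G).hom :=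
    inferInstanceAs (LocallyOfFinitePresentation (pullback.snd G.hom t))
  have key : ∀ (Z : Over X.left) (_ : Z ⟶ Over.mk (X.left.fromSpecResidueField x)) (b : (Over.map t).obj Z ⟶ G)
      (a : (Over.map t).obj Z ⟶ H), b * (a ≫ u) = (a ≫ u) * b := by
    intro Z p b a
    refine hc _ (Over.homMk (p.left ≫ Spec.map (t.residueFieldMap x)) ?_) b a
    show (p.left ≫ Spec.map (t.residueFieldMap x)) ≫ S.fromSpecResidueField (t x) = Z.hom ≫ t
    rw [Category.assoc, Scheme.Hom.SpecMap_residueFieldMap_fromSpecResidueField, ← Category.assoc]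
    congr 1
    exact Over.w p
  obtain ⟨W, hxW, hW⟩ := exists_nhd_hom_eq (Groth.Agent.CentralDescent.isMultTypeFT_bc t H hH) ub c x
    (fun Z p b a => by
      apply (Over.mapPullbackAdj t).homEquiv _ _ |>.symm.injective
      show downP t _ = downP t _
      rw [downP_mul, downP_mul, downP_comp_map]
      exact key Z p _ _)
    (fun Z p a => by
      apply (Over.mapPullbackAdj t).homEquiv _ _ |>.symm.injective
      show downP t _ = downP t _
      rw [downP_comp_map, hpt, key Z p, mul_inv_cancel_right])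
  refine ⟨W, hxW, fun Y k hk h => ?_⟩
  let Z : Over X.left := Over.mk k.left
  let j : (Over.map t).obj Z ≅ Y := Over.isoMk (Iso.refl _) (by simp [t, Z])
  have := congrArg (downP t) (hW Z (Over.homMk (IsOpenImmersion.lift W.ι k.left (fun y hy => (Scheme.Opens.range_ι W).ge (hk hy)))
    (IsOpenImmersion.lift_fac _ _ _)) (upP t (j.hom ≫ h)))
  rw [downP_comp_map, hpt, downP_upP, show gY Z = j.hom ≫ k ≫ g from by
    rw [← Category.assoc j.hom]; congr 1,
    eq_mul_inv_iff_mul_eq] at this
  rw [← cancel_epi j.hom, MonObj.comp_mul, MonObj.comp_mul]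
  simpa only [Category.assoc] using this.symm

theorem comm_of_cent (hH : SGA3x.IsMultTypeFT H) [LocallyOfFinitePresentation G.hom] [IsMonHom u] (X : Over S)
    (g : X ⟶ G) (h : X ⟶ H) (hc : ∀ x : X.left, Cent u (S.fromSpecResidueField (X.hom x))) :
    g * (h ≫ u) = (h ≫ u) * g := by
  choose W hW hWe using fun x => exists_nhd_comm hH g x (hc x)
  let 𝒲 := X.left.openCoverOfIsOpenCover W (eq_top_iff.mpr fun y _ => TopologicalSpace.Opens.mem_iSup.mpr ⟨y, hW y⟩)
  refine Over.OverMorphism.ext (𝒲.hom_ext _ _ fun x => ?_)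
  let Y : Over S := Over.mk ((W x).ι ≫ X.hom)
  let k : Y ⟶ X := Over.homMk (W x).ι
  have := hWe x Y k (W x).range_ι.le (k ≫ h)
  rw [Category.assoc, ← MonObj.comp_mul, ← MonObj.comp_mul] at this
  exact congrArg CommaMorphism.left this

theorem exists_open_cent (hH : SGA3x.IsMultTypeFT H) [LocallyOfFinitePresentation G.hom] [IsMonHom u]
    (hconn : ∀ t : S, ConnectedSpace ↥(pullback G.hom (S.fromSpecResidueField t))) (s : S)
    (hc : Cent u (S.fromSpecResidueField s)) :
    ∃ V : S.Opens, s ∈ V ∧ ∀ t ∈ V, Cent u (S.fromSpecResidueField t) := by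
  let ε : S ⟶ G.left := (η[G]).left
  have hεt : ε ≫ G.hom = 𝟙 S := Over.w η[G]
  obtain ⟨W, hW, hWc⟩ := exists_nhd_comm hH (𝟙 G) (ε s)
    (by rw [← Scheme.Hom.comp_apply, hεt]; exact hc)
  refine ⟨ε ⁻¹ᵁ W, hW, fun t ht Y p g h => ?_⟩
  let π := S.fromSpecResidueField t
  let Gt := Red.bc π G
  haveI : ConnectedSpace Gt.left := hconn t
  let pr : Gt.left ⟶ G.left := pullback.fst G.hom π
  let W' : Gt.left.Opens := pr ⁻¹ᵁ W
  have he : GrpSchField.e Gt ∈ W' := by
    let U₁ : Over (Spec (S.residueField t)) := 𝟙_ _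
    let z : ↥(Spec (S.residueField t)) := IsLocalRing.closedPoint (S.residueField t)
    show pr (GrpSchField.e Gt) ∈ W
    rw [← GrpSchField.one_apply (G := Gt) (W := U₁) z]
    show ((1 : U₁ ⟶ Gt).left ≫ pullback.fst G.hom π) z ∈ W
    rw [← downP_left, downP_one, Hom.one_def]
    rw [Over.comp_left, Scheme.Hom.comp_apply]
    have h1 : (toUnit ((Over.map π).obj U₁)).left = π := by
      have := Over.w (toUnit ((Over.map π).obj U₁))
      simpa [U₁] using this
    rw [h1]
    show ε (π z) ∈ W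
    rw [Scheme.fromSpecResidueField_apply]
    exact ht
  let O : (Gt ⊗ Gt).left.Opens := (fst Gt Gt).left ⁻¹ᵁ W' ⊓ (snd Gt Gt).left ⁻¹ᵁ W'
  let m : (O : Scheme.{u}) ⟶ Gt.left := O.ι ≫ μ[Gt].left
  haveI : Flat Gt.hom := inferInstance
  haveI : Flat μ[Gt].left := GrpSchField.flat_mul_left
  haveI : Flat m := inferInstance
  haveI : Surjective m := ⟨fun y => by
    have hu : y ∈ GrpSchField.unitComp Gt := by
      rw [← GrpSchField.connectedComponent_eq_unitComp, PreconnectedSpace.connectedComponent_eq_univ]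
      trivial
    obtain ⟨z, hz, rfl⟩ := GrpSchField.unitComp_subset_mulSet W' he hu
    exact ⟨⟨z, hz⟩, rfl⟩⟩
  let Z : Over (Spec (S.residueField t)) := Over.mk p.left
  let j : (Over.map π).obj Z ≅ Y := Over.isoMk (Iso.refl _) ((Category.id_comp _).trans (Over.w p).symm)
  let gam := upP π (j.hom ≫ g)
  let q := pullback.fst gam.left m
  haveI : Epi q := Flat.epi_of_flat_of_surjective _
  let Z' : Over (Spec (S.residueField t)) := Over.mk (q ≫ Z.hom)
  let k : Z' ⟶ Z := Over.homMk q
  let ab : Z' ⟶ Gt ⊗ Gt := Over.homMk (pullback.snd gam.left m ≫ O.ι) (by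
    show (pullback.snd gam.left m ≫ O.ι) ≫ (Gt ⊗ Gt).hom = q ≫ Z.hom
    rw [← Over.w μ[Gt], ← Over.w gam, Category.assoc, ← Category.assoc O.ι, ← Category.assoc (pullback.snd gam.left m),
      ← pullback.condition, Category.assoc])
  have hab : (ab ≫ fst Gt Gt) * (ab ≫ snd Gt Gt) = k ≫ gam := by
    rw [Hom.mul_def, ← comp_lift, lift_fst_snd, Category.comp_id]
    exact Over.OverMorphism.ext ((Category.assoc _ _ _).trans (pullback.condition.symm))
  have hmem : ∀ f : Gt ⊗ Gt ⟶ Gt, (∀ z ∈ O, f.left z ∈ W') →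
      Set.range (downP π (ab ≫ f)).left ⊆ (W : Set G.left) := by
    rintro f hf _ ⟨z, rfl⟩
    rw [downP_left]
    exact hf _ (pullback.snd gam.left m z).2
  let y : (Over.map π).obj Z' ⟶ Y := (Over.map π).map k ≫ j.hom
  have ha := hWc _ (downP π (ab ≫ fst Gt Gt)) (hmem _ fun z hz => hz.1) (y ≫ h)
  have hb := hWc _ (downP π (ab ≫ snd Gt Gt)) (hmem _ fun z hz => hz.2) (y ≫ h)
  rw [Category.comp_id] at ha hb
  have := Commute.mul_left ha hb
  rw [← downP_mul, hab, downP_comp, downP_upP, ← Category.assoc, Category.assoc] at this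
  have h2 : y ≫ (g * (h ≫ u)) = y ≫ ((h ≫ u) * g) := by
    rw [MonObj.comp_mul, MonObj.comp_mul]
    exact this.eq
  apply Over.OverMorphism.ext
  haveI : Epi y.left := inferInstanceAs (Epi (q ≫ 𝟙 _))
  exact (cancel_epi y.left).mp (congrArg CommaMorphism.left h2)

end Groth.Agent.FactLocus
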