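import Groth.Agent.FactLocus.Basic

/-!
Over a field everything factors as soon as the torsion points do; the locus is closed.
-/

universe u

open CategoryTheory Limits AlgebraicGeometry
open Groth.Agent.DiagGrp MonoidAlgebra

set_option linter.style.haveILetI false
set_option backward.isDefEq.respectTransparency false

noncomputable section

namespace Groth.Agent.FactLocus

variable {A : Type u} [CommRing A] {M : Type} [CommGroup M] {E : Scheme.{u}}

/-- reduction to the characters of the `n`-torsion -/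
abbrev qn (R : Type u) [CommRing R] (M : Type) [CommGroup M] (n : ℕ) :
    MonoidAlgebra R M →+* MonoidAlgebra R (Qn M n) :=
  mapDomainRingHom R (QuotientGroup.mk' (powMonoidHom n : M →* M).range)

theorem map_qn_comm {R C : Type u} [CommRing R] [CommRing C] (φ : R →+* C) (n : ℕ) :
    (mapRingHom (Qn M n) φ).comp (qn R M n) = (qn C M n).comp (mapRingHom M φ) :=
  MonoidAlgebra.ringHom_ext (fun r => by simp [qn]) (fun m => by simp [qn])

/-- the torsion subgroups meet the subgroup in closed subschemes -/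
def TorClosed (ι : E ⟶ Spec (CommRingCat.of (MonoidAlgebra A M))) : Prop :=
  ∀ n, 0 < n → ∃ I : Ideal (MonoidAlgebra A (Qn M n)), ∀ (C : Type u) [CommRing C]
    (k : MonoidAlgebra A (Qn M n) →+* C), Fac ι (k.comp (qn A M n)) ↔ I ≤ RingHom.ker k

variable {ι : E ⟶ Spec (CommRingCat.of (MonoidAlgebra A M))} [IsImmersion ι]

theorem allFac_of_torsion [Group.FG M] (hmul : MulClosed ι) (K : Type u) [Field K] [Algebra A K]
    (htor : ∀ n, 0 < n → Fac ι ((qn K M n).comp (mapRingHom M (algebraMap A K)))) : AllFac ι K := by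
  haveI : IsNoetherianRing (MonoidAlgebra K M) := by
    haveI : Monoid.FG M := Monoid.fg_iff.mpr (Submonoid.fg_iff _ |>.mp (Monoid.FG.fg_top))
    haveI : Algebra.FiniteType K (MonoidAlgebra K M) := inferInstance
    exact Algebra.FiniteType.isNoetherianRing K _
  let ιK := pullback.snd ι (Spec.map (CommRingCat.ofHom (mapRingHom M (algebraMap A K))))
  haveI : QuasiCompact ιK := by
    haveI : IsImmersion ιK := inferInstance
    haveI : TopologicalSpace.NoetherianSpace ↥(Spec (CommRingCat.of (MonoidAlgebra K M))) :=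
      inferInstanceAs (TopologicalSpace.NoetherianSpace (PrimeSpectrum (MonoidAlgebra K M)))
    exact ⟨fun U _ _ => ιK.isEmbedding.isInducing.isCompact_iff.mpr (TopologicalSpace.NoetherianSpace.isCompact _)⟩
  have hker : RingHom.ker ιK.appTop.hom = ⊥ := by
    refine eq_bot_iff.mpr fun g hg => ?_
    rw [Ideal.mem_bot]
    have key : (Scheme.ΓSpecIso _).hom g = 0 := eq_zero_of_quotients _ fun n hn => by
      obtain ⟨e, he⟩ := (fac_comp_iff _ _).mp (htor n hn)
      have h1 : (Spec.map (CommRingCat.ofHom (qn K M n))).appTop g = 0 := by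
        rw [← he, Scheme.Hom.comp_appTop]
        show e.appTop (ιK.appTop g) = 0
        rw [RingHom.mem_ker.mp hg, map_zero]
      have h2 := congrArg (fun f => f.hom g) (Scheme.ΓSpecIso_naturality (CommRingCat.ofHom (qn K M n)))
      simp only [CommRingCat.hom_comp, CommRingCat.hom_ofHom, RingHom.comp_apply, h1, map_zero] at h2
      exact h2.symm
    exact ((Scheme.ΓSpecIso (CommRingCat.of (MonoidAlgebra K M))).commRingCatIsoToRingEquiv.map_eq_zero_iff).mp key
  haveI : IsOpenImmersion ιK := by
    haveI : IsIso ιK.imageι := by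
      refine (Scheme.isIso_subschemeι_iff_eq_bot _).mpr ?_
      rw [Scheme.ker_of_isAffine, hker]
      exact Scheme.IdealSheafData.ext_of_isAffine (by simp)
    rw [← ιK.toImage_imageι]
    infer_instance
  obtain ⟨J, hJ⟩ := (PrimeSpectrum.isClosed_iff_zeroLocus_ideal _).mp
    (show IsClosed (ιK.opensRange.carrier : Set (PrimeSpectrum (MonoidAlgebra K M)))ᶜ from ιK.opensRange.isOpen.isClosed_compl)
  have htopn : ∀ n, 0 < n → J.map (qn K M n) = ⊤ := fun n hn => by
    by_contra hne
    obtain ⟨P, hP, hle⟩ := Ideal.exists_le_maximal _ hne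
    obtain ⟨e, he⟩ := (fac_comp_iff _ _).mp (htor n hn)
    have h1 : Spec.map (CommRingCat.ofHom (qn K M n)) (⟨P, hP.isPrime⟩ : PrimeSpectrum _) ∈
        (ιK.opensRange.carrier : Set (PrimeSpectrum (MonoidAlgebra K M))) := ⟨e ⟨P, hP.isPrime⟩, by rw [← Scheme.Hom.comp_apply, he]⟩
    have h2 : ¬ Spec.map (CommRingCat.ofHom (qn K M n)) (⟨P, hP.isPrime⟩ : PrimeSpectrum _) ∈
        PrimeSpectrum.zeroLocus (J : Set (MonoidAlgebra K M)) := by
      rw [← hJ]; exact fun h => h h1
    exact h2 fun j hj => hle (Ideal.mem_map_of_mem _ hj)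
  have hs := surjective_of_dense hmul K fun L _ _ _ _ => by
    haveI : Algebra.FiniteType L (MonoidAlgebra L M) := by
      haveI : Monoid.FG M := Monoid.fg_iff.mpr (Submonoid.fg_iff _ |>.mp (Monoid.FG.fg_top))
      infer_instance
    haveI : IsNoetherianRing (MonoidAlgebra L M) := Algebra.FiniteType.isNoetherianRing L _
    let JL : Ideal (MonoidAlgebra L M) := J.map (mapRingHom M (algebraMap K L))
    obtain ⟨f, hf, hnzd⟩ := exists_nonZeroDivisor_mem JL fun g hg => eq_zero_of_quotients g fun n hn => by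
      have h1 : JL.map (qn L M n) = ⊤ := by
        rw [Ideal.map_map, ← map_qn_comm, ← Ideal.map_map, htopn n hn, Ideal.map_top]
      have h2 : (1 : MonoidAlgebra L (Qn M n)) ∈ JL.map (qn L M n) := h1 ▸ Submodule.mem_top
      have h3 : JL.map (qn L M n) ≤ Submodule.colon (⊥ : Ideal (MonoidAlgebra L (Qn M n))) {qn L M n g} :=
        Ideal.map_le_iff_le_comap.mpr fun j hj => by
          simp only [Ideal.mem_comap, Submodule.mem_colon_singleton, smul_eq_mul, Ideal.mem_bot, ← map_mul, hg j hj, map_zero]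
      simpa using Submodule.mem_colon_singleton.mp (h3 h2)
    refine ⟨f, hnzd, fun C _ k hk => ?_⟩
    rw [IsScalarTower.algebraMap_eq A K L, mapRingHom_comp, ← RingHom.comp_assoc]
    refine (fac_comp_iff _ _).mpr ⟨IsOpenImmersion.lift ιK _ ?_, IsOpenImmersion.lift_fac _ _ ?_⟩
    all_goals
      rintro _ ⟨P, rfl⟩
      by_contra hP
      have h4 : Spec.map (CommRingCat.ofHom (k.comp (mapRingHom M (algebraMap K L)))) P ∈
          PrimeSpectrum.zeroLocus (J : Set (MonoidAlgebra K M)) := by rw [← hJ]; exact hP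
      have h5 : JL ≤ (P : PrimeSpectrum C).asIdeal.comap k := Ideal.map_le_iff_le_comap.mpr fun j hj => h4 hj
      exact (P : PrimeSpectrum C).isPrime.ne_top (Ideal.eq_top_of_isUnit_mem _ (h5 hf) hk)
  haveI := hs
  haveI : IsIso ιK := by
    exact ⟨IsOpenImmersion.lift ιK (𝟙 _) (by rw [ιK.surjective.range_eq]; exact Set.subset_univ _),
      by rw [← cancel_mono ιK, Category.assoc, IsOpenImmersion.lift_fac, Category.comp_id, Category.id_comp],
      IsOpenImmersion.lift_fac _ _ _⟩
  have h6 : Fac ι ((RingHom.id _).comp (mapRingHom M (algebraMap A K))) :=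
    (fac_comp_iff _ _).mpr ⟨inv ιK, by rw [IsIso.inv_hom_id, CommRingCat.ofHom_id, Spec.map_id]⟩
  rwa [RingHom.id_comp] at h6

/-- the locus is closed -/
theorem exists_locus_ideal [Group.FG M] (hmul : MulClosed ι) (htor : TorClosed ι) :
    ∃ c : Ideal A, ∀ (K : Type u) [Field K] [Algebra A K], AllFac ι K ↔ c ≤ RingHom.ker (algebraMap A K) := by
  choose I hI using htor
  choose c hc using fun n (hn : 0 < n) => exists_coeffIdeal (I n hn)
  refine ⟨⨆ (n) (hn : 0 < n), c n hn, fun K _ _ => ?_⟩
  have hiff : ∀ n (hn : 0 < n), Fac ι ((qn K M n).comp (mapRingHom M (algebraMap A K))) ↔ c n hn ≤ RingHom.ker (algebraMap A K) :=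
    fun n hn => by rw [← map_qn_comm, hI n hn, hc n hn]
  constructor
  · intro h
    exact iSup₂_le fun n hn => (hiff n hn).mp (h.comp (qn K M n))
  · intro h
    exact allFac_of_torsion hmul K fun n hn => (hiff n hn).mpr ((le_iSup₂ (f := fun n hn => c n hn) n hn).trans h)

end Groth.Agent.FactLocus
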