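import Groth.Agent.FactLocus.Nhd

/-!
Groups of multiplicative type are commutative.
-/

universe u

open CategoryTheory Limits MonoidalCategory CartesianMonoidalCategory MonObj GrpObj AlgebraicGeometry
open CoactBr Groth.Agent.DiagGrp Groth.Agent.DiagAction Groth.Agent.CentralDescent

set_option linter.style.haveILetI false
set_option backward.isDefEq.respectTransparency false

noncomputable section

namespace Groth.Agent.FactLocus

theorem mul_comm_points {S : Scheme.{u}} {H : Over S} [GrpObj H] (hH : SGA3x.IsMultTypeFT H) {Y : Over S}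
    (a b : Y ⟶ H) : a * b = b * a := by
  obtain ⟨S', f, _, _, hf, hloc⟩ := exists_common_cover hH hH
  let π := pullback.fst Y.hom f
  haveI : EffectiveEpi π := effectiveEpi_of_cov π (isFpqcCov_fst f hf Y.hom)
  let Y' : Over S := Over.mk (π ≫ Y.hom)
  let k : Y' ⟶ Y := Over.homMk π
  suffices h : k ≫ (a * b) = k ≫ (b * a) by
    have h' : π ≫ (a * b).left = π ≫ (b * a).left := congrArg CommaMorphism.left h
    exact Over.OverMorphism.ext ((cancel_epi π).mp h')
  have hloc' : ∀ y : (pullback Y.hom f : Scheme.{u}), ∃ W : (pullback Y.hom f).Opens, y ∈ W ∧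
      ∀ (a b : Over.mk ((Scheme.Opens.ι W) ≫ π ≫ Y.hom) ⟶ H), a * b = b * a := by
    intro y
    obtain ⟨V, hV, M, _, _, _, hyV, -, -, hchart⟩ := hloc (pullback.snd Y.hom f y)
    obtain ⟨_, ⟨W, hW, rfl⟩, hyW, hWV⟩ := (pullback Y.hom f).isBasis_affineOpens.exists_subset_of_mem_open
      (show y ∈ (pullback.snd Y.hom f) ⁻¹ᵁ V from hyV) ((pullback.snd Y.hom f) ⁻¹ᵁ V).isOpen
    replace hW : IsAffineOpen W := hW
    refine ⟨W, hyW, fun a b => ?_⟩
    let C := Γ(pullback Y.hom f, W)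
    letI : Algebra Γ(S', V) C := ((pullback.snd Y.hom f).appLE V W hWV).hom.toAlgebra
    obtain ⟨⟨E⟩, -⟩ := hchart C
    let t := Spec.map (CommRingCat.ofHom (algebraMap Γ(S', V) C)) ≫ hV.fromSpec ≫ f
    have ht : hW.fromSpec ≫ π ≫ Y.hom = t := by
      simp only [t, π, pullback.condition]
      rw [← Category.assoc (Spec.map _)]
      erw [IsAffineOpen.SpecMap_appLE_fromSpec (pullback.snd Y.hom f) hV hW hWV]
      simp
    let e : (Over.map t).obj (sp C C) ≅ Over.mk ((Scheme.Opens.ι W) ≫ π ≫ Y.hom) :=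
      Over.isoMk hW.isoSpec.symm (by
        show hW.isoSpec.inv ≫ (Scheme.Opens.ι W) ≫ π ≫ Y.hom = Spec.map (CommRingCat.ofHom (algebraMap C C)) ≫ t
        rw [IsAffineOpen.isoSpec_inv_ι_assoc, ht, show CommRingCat.ofHom (algebraMap C C) = 𝟙 _ from rfl, Spec.map_id,
          Category.id_comp])
    rw [← cancel_epi e.hom, MonObj.comp_mul, MonObj.comp_mul]
    let ε : Red.bc t H ⟶ sp C (MonoidAlgebra C M) := E.hom.hom.hom
    haveI : IsMonHom ε := E.hom.hom.isMonHom_hom
    haveI : IsIso ε := ((Grp.forget _).mapIso E).isIso_hom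
    have hcomm : ∀ p q : sp C C ⟶ Red.bc t H, p * q = q * p := fun p q => by
      obtain ⟨x, hx⟩ := pt_surjective (p ≫ ε)
      obtain ⟨z, hz⟩ := pt_surjective (q ≫ ε)
      rw [← cancel_mono ε, MonObj.mul_comp, MonObj.mul_comp]
      erw [← hx, ← hz, ← pt_conv, ← pt_conv]
      congr 1
      ext m; simp [mul_comm]
    have := congrArg (downP t) (hcomm (upP t (e.hom ≫ a)) (upP t (e.hom ≫ b)))
    rwa [downP_mul, downP_mul, downP_upP, downP_upP] at this
  choose W hyW hW using hloc'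
  let 𝒲 := (pullback Y.hom f).openCoverOfIsOpenCover W
    (eq_top_iff.mpr fun y _ => TopologicalSpace.Opens.mem_iSup.mpr ⟨y, hyW y⟩)
  apply Over.OverMorphism.ext
  refine 𝒲.hom_ext _ _ fun y => ?_
  let kW : Over.mk ((W y).ι ≫ π ≫ Y.hom) ⟶ Y' := Over.homMk (W y).ι
  show (kW ≫ k ≫ (a * b)).left = (kW ≫ k ≫ (b * a)).left
  simp only [MonObj.comp_mul]
  rw [hW]

end Groth.Agent.FactLocus
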