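import Groth.Agent.FactLocus.Locus

/-!
Equality of subgroups as mutual factorisation; base change of the factorisation predicate.
-/

universe u

open CategoryTheory Limits MonoidalCategory CartesianMonoidalCategory AlgebraicGeometry
open Groth.Agent.DiagGrp Groth.Agent.DiagAction

set_option linter.style.haveILetI false
set_option backward.isDefEq.respectTransparency false

noncomputable section

namespace Groth.Agent.FactLocus

variable {S S' : Scheme.{u}} {H G H₁ : Over S}

theorem isImmersion_bc (j : S' ⟶ S) (i : H₁ ⟶ G) [IsImmersion i.left] :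
    IsImmersion ((Over.pullback j).map i).left := by
  have h1 : IsPullback (pullback.fst H₁.hom j) ((Over.pullback j).map i).left i.left (pullback.fst G.hom j) := by
    refine IsPullback.of_bot ?_ (pullback.lift_fst _ _ _).symm (IsPullback.of_hasPullback G.hom j)
    have h2 : ((Over.pullback j).map i).left ≫ pullback.snd G.hom j = pullback.snd H₁.hom j :=
      pullback.lift_snd _ _ _
    rw [h2, Over.w i]
    exact IsPullback.of_hasPullback H₁.hom j
  exact MorphismProperty.of_isPullback h1 ‹IsImmersion i.left›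

theorem fact_bc_iff (j : S' ⟶ S) {T : Scheme.{u}} (t : T ⟶ S') (i : H₁ ⟶ G) (u : H ⟶ G) :
    Fact ((Over.pullback j).map i) ((Over.pullback j).map u) t ↔ Fact i u (t ≫ j) := by
  constructor
  · intro h Y p y
    let Z : Over S' := Over.mk (p.left ≫ t)
    let e : (Over.map j).obj Z ≅ Y := Over.isoMk (Iso.refl _)
      ((Category.id_comp _).trans ((Over.w p).symm.trans (Category.assoc _ _ _).symm))
    obtain ⟨x, hx⟩ := h Z (Over.homMk p.left rfl) (upP j (e.hom ≫ y))
    refine ⟨e.inv ≫ downP j x, ?_⟩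
    have := congrArg (downP j) hx
    rw [downP_comp_map, downP_comp_map, downP_upP] at this
    rw [Category.assoc, this, Category.assoc, Iso.inv_hom_id_assoc]
  · intro h Y p y
    obtain ⟨x, hx⟩ := h ((Over.map j).obj Y) (Over.homMk p.left (by
      show p.left ≫ t ≫ j = Y.hom ≫ j
      rw [← Category.assoc]
      congr 1
      exact Over.w p)) (downP j y)
    refine ⟨upP j x, ?_⟩
    apply (Over.mapPullbackAdj j).homEquiv _ _ |>.symm.injective
    show downP j _ = downP j _
    rw [downP_comp_map, downP_comp_map, downP_upP, hx]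

theorem exists_hom_of_fact {T : Scheme.{u}} (t : T ⟶ S) {i : H₁ ⟶ G} {u : H ⟶ G} (h : Fact i u t) :
    ∃ φ : Red.bc t H ⟶ Red.bc t H₁, φ ≫ (Over.pullback t).map i = (Over.pullback t).map u := by
  obtain ⟨x, hx⟩ := h ((Over.map t).obj (Red.bc t H)) (Over.homMk (Red.bc t H).hom rfl) (downP t (𝟙 _))
  refine ⟨upP t x, ?_⟩
  apply (Over.mapPullbackAdj t).homEquiv _ _ |>.symm.injective
  show downP t _ = downP t _
  rw [downP_comp_map, downP_upP, hx, ← downP_comp_map, Category.id_comp]

theorem fact_of_hom {T : Scheme.{u}} (t : T ⟶ S) {i : H₁ ⟶ G} {u : H ⟶ G} (φ : Red.bc t H ⟶ Red.bc t H₁)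
    (hφ : φ ≫ (Over.pullback t).map i = (Over.pullback t).map u) : Fact i u t := by
  intro Y p y
  let Z : Over T := Over.mk p.left
  let e : (Over.map t).obj Z ≅ Y := Over.isoMk (Iso.refl _) ((Category.id_comp _).trans (Over.w p).symm)
  refine ⟨e.inv ≫ downP t (upP t (e.hom ≫ y) ≫ φ), ?_⟩
  rw [Category.assoc, ← downP_comp_map, Category.assoc, hφ, downP_comp_map, downP_upP, Category.assoc,
    Iso.inv_hom_id_assoc]

theorem exists_iso_iff {T : Scheme.{u}} (t : T ⟶ S) (i₁ : H₁ ⟶ G) (i₂ : H ⟶ G) [IsImmersion i₁.left] [IsImmersion i₂.left] :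
    (∃ ψ : Red.bc t H₁ ≅ Red.bc t H, ψ.hom ≫ (Over.pullback t).map i₂ = (Over.pullback t).map i₁) ↔
      Fact i₁ i₂ t ∧ Fact i₂ i₁ t := by
  constructor
  · rintro ⟨ψ, hψ⟩
    exact ⟨fact_of_hom t ψ.inv (by rw [← hψ, Iso.inv_hom_id_assoc]), fact_of_hom t ψ.hom hψ⟩
  · rintro ⟨h₁, h₂⟩
    obtain ⟨φ, hφ⟩ := exists_hom_of_fact t h₁
    obtain ⟨χ, hχ⟩ := exists_hom_of_fact t h₂
    haveI : IsImmersion ((Over.pullback t).map i₁).left := isImmersion_bc t i₁
    haveI : IsImmersion ((Over.pullback t).map i₂).left := isImmersion_bc t i₂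
    haveI : Mono ((Over.pullback t).map i₁) := Over.mono_of_mono_left _
    haveI : Mono ((Over.pullback t).map i₂) := Over.mono_of_mono_left _
    exact ⟨⟨χ, φ, by rw [← cancel_mono ((Over.pullback t).map i₁), Category.assoc, hφ, hχ, Category.id_comp],
      by rw [← cancel_mono ((Over.pullback t).map i₂), Category.assoc, hχ, hφ, Category.id_comp]⟩, hχ⟩

end Groth.Agent.FactLocus
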