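import Groth.Agent.ConjInt.Lift
import Groth.Agent.DiagAction.Central

/-!
Rigidity over a square-zero ideal killed by an ideal modulo which a homomorphism is central.
-/

universe u

open CategoryTheory Limits MonoidalCategory CartesianMonoidalCategory MonObj GrpObj AlgebraicGeometry
open CoactBr Groth.Agent.DiagGrp Groth.Agent.DiagAction Groth.Agent.ConjInt

set_option linter.style.haveILetI false
set_option backward.isDefEq.respectTransparency false

noncomputable section

namespace Groth.Agent.FactLocus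

variable {R : Type u} [CommRing R] (J 𝔭 : Ideal R)
variable {H G : Over (Spec (CommRingCat.of R))} [GrpObj H] [GrpObj G]

/-- `a` commutes with every point above algebras killed by `𝔭` -/
def FibComm (u : H ⟶ G) : Prop :=
  ∀ (D : Type u) [CommRing D] [Algebra R D], (∀ r ∈ 𝔭, algebraMap R D r = 0) →
    ∀ (g : sp R D ⟶ G) (h : sp R D ⟶ H), g * (h ≫ u) = (h ≫ u) * g

variable {J 𝔭}

theorem hom_ext_prod {D C : Type u} [CommRing D] [CommRing C] {X : Scheme.{u}}
    (g h : Spec (CommRingCat.of (D × C)) ⟶ X)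
    (h₁ : Spec.map (CommRingCat.ofHom (RingHom.fst D C)) ≫ g = Spec.map (CommRingCat.ofHom (RingHom.fst D C)) ≫ h)
    (h₂ : Spec.map (CommRingCat.ofHom (RingHom.snd D C)) ≫ g = Spec.map (CommRingCat.ofHom (RingHom.snd D C)) ≫ h) :
    g = h := by
  rw [← cancel_epi (coprodSpec D C)]
  apply coprod.hom_ext
  · rw [← Category.assoc, ← Category.assoc, coprodSpec_inl]; exact h₁
  · rw [← Category.assoc, ← Category.assoc, coprodSpec_inr]; exact h₂

theorem comm_of_mod_affine (u : H ⟶ G) (hu : FibComm 𝔭 u) (hJ : J ^ 2 = ⊥) (hpJ : ∀ x ∈ 𝔭, ∀ y ∈ J, x * y = 0)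
    (D : Type u) [CommRing D] [Algebra R D] (g : sp R D ⟶ G)
    (hg : pt (Ideal.Quotient.mkₐ R (J.map (algebraMap R D))) ≫ g = 1) (h : sp R D ⟶ H)
    {W : G.left.Opens} (hW : IsAffineOpen W) (hr : Set.range (1 : sp R D ⟶ G).left ⊆ W) :
    g * (h ≫ u) = (h ≫ u) * g := by
  let JD := J.map (algebraMap R D)
  have hJD : JD ^ 2 = ⊥ := by rw [← Ideal.map_pow, hJ, Ideal.map_bot]
  let q := Ideal.Quotient.mkₐ R JD
  have hq : pt q ≫ g = pt q ≫ (1 : sp R D ⟶ G) := by rw [hg, MonObj.comp_one]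
  have hrg : Set.range g.left ⊆ W := by
    rintro _ ⟨z, rfl⟩
    obtain ⟨z', rfl⟩ : z ∈ Set.range (pt q).left := by
      rw [pt_left]
      have hle : JD ≤ (z : PrimeSpectrum D).asIdeal := fun r hr => by
        refine (z : PrimeSpectrum D).isPrime.mem_of_pow_mem 2 ?_
        have : r ^ 2 ∈ JD ^ 2 := Ideal.pow_mem_pow hr 2
        rw [hJD, Ideal.mem_bot] at this
        rw [this]
        exact zero_mem _
      have h1 : Set.range (PrimeSpectrum.comap q.toRingHom) = PrimeSpectrum.zeroLocus (JD : Set D) := by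
        show Set.range (PrimeSpectrum.comap (Ideal.Quotient.mk JD)) = _
        rw [range_comap_of_surjective _ _ Ideal.Quotient.mk_surjective, Ideal.mk_ker]
      exact h1.ge hle
    rw [← Scheme.Hom.comp_apply, ← Over.comp_left, hq]
    exact hr ⟨(pt q).left z', rfl⟩
  let l := IsOpenImmersion.lift hW.fromSpec g.left (hrg.trans hW.range_fromSpec.ge)
  let le := IsOpenImmersion.lift hW.fromSpec (1 : sp R D ⟶ G).left (hr.trans hW.range_fromSpec.ge)
  let φ := Spec.preimage l
  let φe := Spec.preimage le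
  have hφ : φ ≫ CommRingCat.ofHom q.toRingHom = φe ≫ CommRingCat.ofHom q.toRingHom := by
    apply Spec.map_injective
    rw [Spec.map_comp, Spec.map_comp, Spec.map_preimage, Spec.map_preimage, ← cancel_mono hW.fromSpec]
    simp only [Category.assoc, l, le, IsOpenImmersion.lift_fac]
    have e := congrArg CommaMorphism.left hq
    simp only [Over.comp_left, pt_left] at e
    exact e
  let J' : Ideal (D × D) := Ideal.prod ⊥ JD
  have hJ' : J' ^ 2 = ⊥ := by
    rw [pow_two, eq_bot_iff, Ideal.mul_le]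
    rintro ⟨x₁, x₂⟩ hx ⟨y₁, y₂⟩ hy
    have := Ideal.mul_mem_mul (show x₂ ∈ JD from hx.2) (show y₂ ∈ JD from hy.2)
    rw [← pow_two, hJD, Ideal.mem_bot] at this
    rw [Ideal.mem_bot]
    exact Prod.ext (by simp [show x₁ = 0 from hx.1]) this
  let P := thick D J'
  let p₁ : P →ₐ[D] D := (AlgHom.fst D D D).comp P.val
  let p₂ : P →ₐ[D] D := (AlgHom.snd D D D).comp P.val
  let φ' : Γ(G.left, W) →+* P := ((φe.hom).prod φ.hom).codRestrict P.toSubring fun x => by
    refine ⟨φe.hom x, show _ ∈ Ideal.prod ⊥ JD from ⟨?_, ?_⟩⟩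
    · show φe.hom x - φe.hom x ∈ (⊥ : Ideal D)
      simp
    · show φ.hom x - φe.hom x ∈ JD
      rw [← Ideal.Quotient.eq]
      exact congrArg (fun f => f.hom x) hφ
  have hp₁ : CommRingCat.ofHom φ' ≫ CommRingCat.ofHom p₁.toRingHom = φe := rfl
  have hp₂ : CommRingCat.ofHom φ' ≫ CommRingCat.ofHom p₂.toRingHom = φ := rfl
  let ψ : CommRingCat.of R ⟶ Γ(G.left, W) := Spec.preimage (hW.fromSpec ≫ G.hom)
  have hψe : ψ ≫ φe = CommRingCat.ofHom (algebraMap R D) := Spec.map_injective (by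
    rw [Spec.map_comp, Spec.map_preimage, Spec.map_preimage, ← Category.assoc, IsOpenImmersion.lift_fac]
    exact Over.w (1 : sp R D ⟶ G))
  have hψg : ψ ≫ φ = CommRingCat.ofHom (algebraMap R D) := Spec.map_injective (by
    rw [Spec.map_comp, Spec.map_preimage, Spec.map_preimage, ← Category.assoc, IsOpenImmersion.lift_fac]
    exact Over.w g)
  have hψP : ψ ≫ CommRingCat.ofHom φ' = CommRingCat.ofHom (algebraMap R P) := by
    ext r
    · exact congrArg (fun f => f.hom r) hψe
    · exact congrArg (fun f => f.hom r) hψg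
  let G' : sp R P ⟶ G := Over.homMk (Spec.map (CommRingCat.ofHom φ') ≫ hW.fromSpec) (by
    rw [Category.assoc, ← Spec.map_preimage (hW.fromSpec ≫ G.hom), ← Spec.map_comp]
    exact congrArg Spec.map hψP)
  have hG₁ : ptR R p₁ ≫ G' = 1 := by
    apply Over.OverMorphism.ext
    simp only [Over.comp_left, ptR, pt_left, G', Over.homMk_left]
    show Spec.map (CommRingCat.ofHom p₁.toRingHom) ≫ _ = _
    rw [← Spec.map_comp_assoc, hp₁, Spec.map_preimage, IsOpenImmersion.lift_fac]
  have hG₂ : ptR R p₂ ≫ G' = g := by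
    apply Over.OverMorphism.ext
    simp only [Over.comp_left, ptR, pt_left, G', Over.homMk_left]
    show Spec.map (CommRingCat.ofHom p₂.toRingHom) ≫ _ = _
    rw [← Spec.map_comp_assoc, hp₂, Spec.map_preimage, IsOpenImmersion.lift_fac]
  let a' : sp R P ⟶ G := pt (IsScalarTower.toAlgHom R D P) ≫ h ≫ u
  have ha : ∀ p : P →ₐ[D] D, ptR R p ≫ a' = h ≫ u := fun p => by
    simp only [a', ← Category.assoc, ptR, ← pt_comp]
    rw [show (p.restrictScalars R).comp (IsScalarTower.toAlgHom R D P) = AlgHom.id R D from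
      AlgHom.ext fun x => p.commutes x]
    rw [show pt (AlgHom.id R D) = 𝟙 _ from Over.OverMorphism.ext (by rw [pt_left]; exact Spec.map_id _), Category.id_comp]
  suffices hb : G' * a' = a' * G' by
    have := congrArg (fun w => ptR R p₂ ≫ w) hb
    simp only [MonObj.comp_mul, hG₂, ha] at this
    exact this
  -- agreement along the two projections
  have e₁ : ptR R p₁ ≫ (G' * a') = ptR R p₁ ≫ (a' * G') := by
    simp only [MonObj.comp_mul, hG₁, ha, _root_.one_mul, _root_.mul_one]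
  let K : Ideal P := 𝔭.map (algebraMap R P)
  letI : CommRing (P ⧸ K) := inferInstance
  let π : P →ₐ[R] P ⧸ K := Ideal.Quotient.mkₐ R K
  have e₂ : Spec.map (CommRingCat.ofHom (Ideal.Quotient.mk K)) ≫ (G' * a').left =
      Spec.map (CommRingCat.ofHom (Ideal.Quotient.mk K)) ≫ (a' * G').left := by
    have e : pt (B := P) (K := P ⧸ K) π ≫ (G' * a') = pt (B := P) (K := P ⧸ K) π ≫ (a' * G') := by
      simp only [MonObj.comp_mul, a']
      simp only [← Category.assoc]
      rw [hu (P ⧸ K) (fun r hr => by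
        rw [IsScalarTower.algebraMap_apply R P (P ⧸ K), Ideal.Quotient.algebraMap_eq, Ideal.Quotient.eq_zero_iff_mem]
        exact Ideal.mem_map_of_mem _ hr)]
    exact congrArg CommaMorphism.left e
  have e₁' := congrArg CommaMorphism.left e₁
  simp only [Over.comp_left, ptR, pt_left] at e₁'
  let 𝔭D := 𝔭.map (algebraMap R D)
  have hmul0 : ∀ x ∈ JD, ∀ y ∈ 𝔭D, x * y = 0 := fun x hx y hy => by
    have h0 : JD * 𝔭D = ⊥ := by
      rw [← Ideal.map_mul, show J * 𝔭 = ⊥ from eq_bot_iff.mpr (Ideal.mul_le.mpr fun a ha b hb => by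
        rw [Ideal.mem_bot, _root_.mul_comm]; exact hpJ b hb a ha), Ideal.map_bot]
    have := Ideal.mul_mem_mul hx hy
    rwa [h0, Ideal.mem_bot] at this
  have hdiff : ∀ r : P, (r : D × D).2 - (r : D × D).1 ∈ JD := by
    rintro ⟨⟨r₁, r₂⟩, a, ha⟩
    have h1 : r₁ - a = 0 := ha.1
    show r₂ - r₁ ∈ JD
    rw [sub_eq_zero.mp h1]; exact ha.2
  have hK : ∀ z ∈ K, (z : D × D).1 = (z : D × D).2 ∧ (z : D × D).1 ∈ 𝔭D := by
    intro z hz
    induction hz using Submodule.span_induction with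
    | zero => exact ⟨rfl, zero_mem _⟩
    | add x y _ _ hx hy => exact ⟨congrArg₂ (· + ·) hx.1 hy.1, add_mem hx.2 hy.2⟩
    | smul r y _ hy =>
      refine ⟨?_, Ideal.mul_mem_left _ _ hy.2⟩
      show (r : D × D).1 * (y : D × D).1 = (r : D × D).2 * (y : D × D).2
      rw [← hy.1, eq_comm, ← sub_eq_zero, ← sub_mul]
      exact hmul0 _ (hdiff r) _ hy.2
    | mem x hx =>
      obtain ⟨r, hr, rfl⟩ := hx
      exact ⟨rfl, Ideal.mem_map_of_mem _ hr⟩
  let i : P →+* D × (P ⧸ K) := (p₁ : P →+* D).prod (Ideal.Quotient.mk K)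
  have hi : Function.Injective i := by
    rw [injective_iff_map_eq_zero]
    intro z hz
    have h1 : (z : D × D).1 = 0 := congrArg Prod.fst hz
    have h2 := (hK z (Ideal.Quotient.eq_zero_iff_mem.mp (congrArg Prod.snd hz))).1
    exact Subtype.ext (Prod.ext h1 (h2.symm.trans h1))
  have hs : Function.Surjective (PrimeSpectrum.comap i) := by
    intro z
    let w := PrimeSpectrum.comap (algebraMap D P) z
    refine ⟨PrimeSpectrum.comap (RingHom.fst D (P ⧸ K)) w, PrimeSpectrum.ext (Ideal.ext fun x => ?_)⟩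
    show algebraMap D P (x : D × D).1 ∈ z.asIdeal ↔ x ∈ z.asIdeal
    have hn : x - algebraMap D P (x : D × D).1 ∈ z.asIdeal := by
      refine z.isPrime.mem_of_pow_mem 2 ?_
      have hd := hdiff x
      have h2 : ((x : D × D).2 - (x : D × D).1) ^ 2 = 0 := by
        have := Ideal.pow_mem_pow hd 2
        rwa [hJD, Ideal.mem_bot] at this
      rw [show (x - algebraMap D P (x : D × D).1) ^ 2 = 0 from Subtype.ext (Prod.ext (by
        show ((x : D × D).1 - (x : D × D).1) ^ 2 = 0
        simp) h2)]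
      exact zero_mem _
    constructor <;> intro h
    · simpa using z.asIdeal.add_mem hn h
    · simpa using z.asIdeal.sub_mem h hn
  apply Over.OverMorphism.ext
  refine hom_ext_of_injective i hi hs _ _ (hom_ext_prod _ _ ?_ ?_)
  · simp only [← Category.assoc, ← Spec.map_comp]
    exact e₁'
  · simp only [← Category.assoc, ← Spec.map_comp]
    exact e₂

theorem comm_of_mod (u : H ⟶ G) (hu : FibComm 𝔭 u) (hJ : J ^ 2 = ⊥) (hpJ : ∀ x ∈ 𝔭, ∀ y ∈ J, x * y = 0)
    (D : Type u) [CommRing D] [Algebra R D] (g : sp R D ⟶ G)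
    (hg : pt (Ideal.Quotient.mkₐ R (J.map (algebraMap R D))) ≫ g = 1) (h : sp R D ⟶ H) :
    g * (h ≫ u) = (h ≫ u) * g := by
  apply Over.OverMorphism.ext
  refine ConjInt.hom_ext_local _ _ fun z => ?_
  obtain ⟨_, ⟨W, hW, rfl⟩, hzW, -⟩ := G.left.isBasis_affineOpens.exists_subset_of_mem_open
    (Set.mem_univ ((1 : sp R D ⟶ G).left z)) isOpen_univ
  replace hW : IsAffineOpen W := hW
  obtain ⟨_, ⟨_, ⟨c, rfl⟩, rfl⟩, hzc, hcW⟩ := PrimeSpectrum.isBasis_basic_opens.exists_subset_of_mem_open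
    (show z ∈ ((1 : sp R D ⟶ G).left ⁻¹ᵁ W : Set _) from hzW) ((1 : sp R D ⟶ G).left ⁻¹ᵁ W).isOpen
  let D' := Localization.Away c
  let k := IsScalarTower.toAlgHom R D D'
  have hk : (pt k).left = Spec.map (CommRingCat.ofHom (algebraMap D D')) := by rw [pt_left]; rfl
  have ho : Set.range (pt k).left = ((PrimeSpectrum.basicOpen c : TopologicalSpace.Opens (PrimeSpectrum D)) : Set (PrimeSpectrum D)) := by
    rw [hk]
    exact PrimeSpectrum.localization_away_comap_range D' c
  haveI : IsOpenImmersion (pt k).left := by rw [hk]; exact IsOpenImmersion.of_isLocalization c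
  refine ⟨_, (pt k).left, inferInstance, ho.ge hzc, ?_⟩
  have key := comm_of_mod_affine u hu hJ hpJ D' (pt k ≫ g) (by
    let kq : (D ⧸ J.map (algebraMap R D)) →ₐ[R] D' ⧸ J.map (algebraMap R D') :=
      Ideal.Quotient.liftₐ _ ((Ideal.Quotient.mkₐ R (J.map (algebraMap R D'))).comp k) (fun x hx => by
        refine Ideal.Quotient.eq_zero_iff_mem.mpr ?_
        have := Ideal.mem_map_of_mem k.toRingHom hx
        rwa [Ideal.map_map, show k.toRingHom.comp (algebraMap R D) = algebraMap R D' from k.comp_algebraMap] at this)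
    have e : (Ideal.Quotient.mkₐ R (J.map (algebraMap R D'))).comp k = kq.comp (Ideal.Quotient.mkₐ R (J.map (algebraMap R D))) :=
      AlgHom.ext fun x => rfl
    rw [← Category.assoc, ← pt_comp, e, pt_comp, Category.assoc, hg, MonObj.comp_one])
    (pt k ≫ h) hW (by
      rw [← MonObj.comp_one (pt k)]
      rintro _ ⟨y, rfl⟩
      rw [Over.comp_left, Scheme.Hom.comp_apply]
      exact hcW (ho.le ⟨y, rfl⟩))
  simp only [Category.assoc, ← MonObj.comp_mul] at key
  exact congrArg CommaMorphism.left key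

theorem hom_eq_of_fibComm (hJ : J ^ 2 = ⊥) (hpJ : ∀ x ∈ 𝔭, ∀ y ∈ J, x * y = 0) {M : Type} [CommGroup M]
    (he : Nonempty (Grp.mk H ≅ Grp.mk (sp R (MonoidAlgebra R M)))) (u v : H ⟶ G) [IsMonHom u] [IsMonHom v]
    (hu : FibComm 𝔭 u)
    (hmod : ∀ (B : Type u) [CommRing B] [Algebra R B], (∀ r ∈ J, algebraMap R B r = 0) →
      ∀ h : sp R B ⟶ H, h ≫ u = h ≫ v) : u = v := by
  have hw : ∀ (D : Type u) [CommRing D] [Algebra R D] (a : sp R D ⟶ H),
      pt (Ideal.Quotient.mkₐ R (J.map (algebraMap R D))) ≫ ((a ≫ v) * (a ≫ u)⁻¹) = 1 := by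
    intro D _ _ a
    simp only [MonObj.comp_mul, GrpObj.comp_inv, ← Category.assoc]
    rw [hmod _ (fun r hr => by
      rw [IsScalarTower.algebraMap_apply R D (D ⧸ J.map (algebraMap R D)), Ideal.Quotient.algebraMap_eq,
        Ideal.Quotient.eq_zero_iff_mem]
      exact Ideal.mem_map_of_mem _ hr), mul_inv_cancel]
  haveI : IsMonHom (v * u⁻¹) := isMonHom_of_affine_points _ fun D _ _ a b => by
    simp only [MonObj.comp_mul, GrpObj.comp_inv, mul_comp']
    have hc : Commute ((b ≫ v) * (b ≫ u)⁻¹) (a ≫ u)⁻¹ :=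
      Commute.inv_right (comm_of_mod u hu hJ hpJ D _ (hw D b) a)
    rw [_root_.mul_inv_rev, _root_.mul_assoc (a ≫ v), ← _root_.mul_assoc (b ≫ v), hc.eq, _root_.mul_assoc]
  have key := hom_trivial_affine J ⟨2, by rw [hJ]; rfl⟩ he (v * u⁻¹) fun B _ _ hB h => by
    simp only [MonObj.comp_mul, GrpObj.comp_inv]
    rw [hmod B hB, mul_inv_cancel]
  exact (mul_inv_eq_one.mp key).symm

end Groth.Agent.FactLocus
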