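import Groth.Agent.FactLocus.Comm
import Groth.Agent.CentralDescent.Points

/-!
Two homomorphisms from a group of multiplicative type which agree on every fibre, one of them being central there.
-/

universe u

open CategoryTheory Limits MonoidalCategory CartesianMonoidalCategory MonObj GrpObj AlgebraicGeometry
open CoactBr Groth.Agent.DiagGrp Groth.Agent.DiagAction Groth.Agent.CentralDescent

set_option linter.style.haveILetI false
set_option backward.isDefEq.respectTransparency false

noncomputable section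

namespace Groth.Agent.FactLocus

theorem exists_nhd_hom_eq {T : Scheme.{u}} {H G : Over T} [GrpObj H] [GrpObj G] (hH : SGA3x.IsMultTypeFT H)
    [LocallyOfFinitePresentation G.hom] (u v : H ⟶ G) [IsMonHom u] [IsMonHom v] (x : T)
    (hc : Cent u (T.fromSpecResidueField x))
    (he : ∀ (Y : Over T) (_ : Y ⟶ Over.mk (T.fromSpecResidueField x)) (h : Y ⟶ H), h ≫ u = h ≫ v) :
    ∃ U : T.Opens, x ∈ U ∧ ∀ (Y : Over T) (_ : Y ⟶ Over.mk U.ι) (h : Y ⟶ H), h ≫ u = h ≫ v := by
  haveI := locallyOfFinitePresentation_of_isMultTypeFT H hH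
  let i : H ⟶ H ⊗ G := lift (𝟙 H) u
  let w : H ⟶ H ⊗ G := lift (𝟙 H) v
  haveI : IsMonHom i := isMonHom_of_mul i fun X a b => by
    refine CartesianMonoidalCategory.hom_ext _ _ ?_ ?_ <;> simp [i, MonObj.mul_comp]
  haveI : IsMonHom w := isMonHom_of_mul w fun X a b => by
    refine CartesianMonoidalCategory.hom_ext _ _ ?_ ?_ <;> simp [w, MonObj.mul_comp]
  haveI : IsImmersion (i.left ≫ (fst H G).left) := by
    rw [← Over.comp_left, lift_fst]
    exact inferInstanceAs (IsImmersion (𝟙 H.left))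
  haveI : IsImmersion i.left := IsImmersion.of_comp i.left (fst H G).left
  haveI : LocallyOfFinitePresentation (H ⊗ G).hom := by
    rw [show (H ⊗ G).hom = pullback.fst H.hom G.hom ≫ H.hom from rfl]
    infer_instance
  obtain ⟨U, hxU, hF⟩ : ∃ U : T.Opens, x ∈ U ∧ Fact i w U.ι := by
    refine exists_nhd_fact hH hH (Or.inr inferInstance) x ?_ ?_
    · intro Y p g h
      refine CartesianMonoidalCategory.hom_ext _ _ ?_ ?_
      · rw [MonObj.mul_comp, MonObj.mul_comp]
        exact mul_comm_points hH _ _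
      · rw [MonObj.mul_comp, MonObj.mul_comp, Category.assoc, lift_snd]
        exact hc Y p _ h
    · intro Y p h
      exact ⟨h, by refine CartesianMonoidalCategory.hom_ext _ _ ?_ ?_ <;> simp [i, w, he Y p h]⟩
  refine ⟨U, hxU, fun Y p h => ?_⟩
  obtain ⟨y, hy⟩ := hF Y p h
  have h1 : y = h := by simpa [i, w] using congrArg (fun z => z ≫ fst H G) hy
  subst h1
  simpa [i, w] using congrArg (fun z => z ≫ snd H G) hy

theorem hom_eq_of_fibres {T : Scheme.{u}} {H G : Over T} [GrpObj H] [GrpObj G] (hH : SGA3x.IsMultTypeFT H)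
    [LocallyOfFinitePresentation G.hom] (u v : H ⟶ G) [IsMonHom u] [IsMonHom v]
    (hc : ∀ x : T, Cent u (T.fromSpecResidueField x))
    (he : ∀ (x : T) (Y : Over T) (_ : Y ⟶ Over.mk (T.fromSpecResidueField x)) (h : Y ⟶ H), h ≫ u = h ≫ v) :
    u = v := by
  choose U hU hUe using fun x => exists_nhd_hom_eq hH u v x (hc x) (he x)
  let 𝒰 := H.left.openCoverOfIsOpenCover (fun x => H.hom ⁻¹ᵁ U x)
    (eq_top_iff.mpr fun y _ => TopologicalSpace.Opens.mem_iSup.mpr ⟨H.hom y, hU _⟩)
  refine Over.OverMorphism.ext (𝒰.hom_ext _ _ fun x => ?_)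
  let Y : Over T := Over.mk ((H.hom ⁻¹ᵁ U x).ι ≫ H.hom)
  let k : Y ⟶ H := Over.homMk (H.hom ⁻¹ᵁ U x).ι
  exact congrArg CommaMorphism.left (hUe x Y (Over.homMk (H.hom ∣_ U x) (morphismRestrict_ι _ _)) k)

end Groth.Agent.FactLocus
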