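import Groth.Agent.FactLocus.FibreCentral

/-!
Factorisation through a subgroup of multiplicative type which is central modulo an ideal killing the thickening.
-/

universe u

open CategoryTheory Limits MonoidalCategory CartesianMonoidalCategory MonObj GrpObj AlgebraicGeometry
open CoactBr Groth.Agent.DiagGrp Groth.Agent.DiagAction

set_option backward.isDefEq.respectTransparency false
set_option linter.style.haveILetI false

noncomputable section

namespace Groth.Agent.FactLocus

variable {R : Type u} [CommRing R] {M M' : Type} [CommGroup M] [CommGroup M']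
variable {Hv Hv' Gv : Over (Spec (CommRingCat.of R))} [GrpObj Hv] [GrpObj Hv'] [GrpObj Gv]

/-- Locally the inclusion of `H'` factors through `H` which is central modulo `𝔭`. -/
theorem exists_factor_fibre (J 𝔭 : Ideal R) (hJ2 : J ^ 2 = ⊥) (hpJ : ∀ x ∈ 𝔭, ∀ y ∈ J, x * y = 0)
    (eH : Nonempty (Grp.mk Hv ≅ Grp.mk (sp R (MonoidAlgebra R M))))
    (eH' : Nonempty (Grp.mk Hv' ≅ Grp.mk (sp R (MonoidAlgebra R M'))))
    (i : Hv ⟶ Gv) [IsMonHom i] [Mono i] (i' : Hv' ⟶ Gv) [IsMonHom i']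
    (hc : FibComm 𝔭 i)
    (h0 : ∀ (X : Over (Spec (CommRingCat.of R))) (_ : X ⟶ Over.mk (Spec.map (CommRingCat.ofHom (Ideal.Quotient.mk J))))
      (h' : X ⟶ Hv'), ∃ x : X ⟶ Hv, x ≫ i = h' ≫ i') :
    ∃ φ : Hv' ⟶ Hv, φ ≫ i = i' := by
  have hJ : IsNilpotent J := ⟨2, by rw [hJ2]; rfl⟩
  obtain ⟨E⟩ := eH
  obtain ⟨E'⟩ := eH'
  let e : sp R (MonoidAlgebra R M) ⟶ Hv := E.inv.hom.hom
  haveI : IsMonHom e := E.inv.hom.isMonHom_hom
  haveI : IsIso e := ((Grp.forget _).mapIso E).isIso_inv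
  let e' : sp R (MonoidAlgebra R M') ⟶ Hv' := E'.inv.hom.hom
  haveI : IsMonHom e' := E'.inv.hom.isMonHom_hom
  haveI : IsIso e' := ((Grp.forget _).mapIso E').isIso_inv
  let i₀ : Spec (CommRingCat.of (R ⧸ J)) ⟶ Spec (CommRingCat.of R) := Spec.map (CommRingCat.ofHom (Ideal.Quotient.mk J))
  have hover : ∀ (B : Type u) [CommRing B] [Algebra R B], (∀ r ∈ J, algebraMap R B r = 0) →
      Nonempty (sp R B ⟶ Over.mk i₀) := fun B _ _ hB =>
    ⟨Over.homMk (Spec.map (CommRingCat.ofHom (Ideal.Quotient.lift J (algebraMap R B) hB))) (by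
      show _ ≫ Spec.map _ = Spec.map _
      rw [← Spec.map_comp]; rfl)⟩
  have hall : ∀ (B : Type u) [CommRing B] [Algebra R B], (∀ r ∈ J, algebraMap R B r = 0) →
      ∀ g : MonoidAlgebra R M' →ₐ[R] B, ∃ cH : MonoidAlgebra R M →ₐ[R] B, pt cH ≫ e ≫ i = pt g ≫ e' ≫ i' := by
    intro B _ _ hB g
    obtain ⟨p⟩ := hover B hB
    obtain ⟨x, hx⟩ := h0 _ p (pt g ≫ e')
    obtain ⟨cH, hcH⟩ := pt_surjective (x ≫ inv e)
    exact ⟨cH, by rw [reassoc_of% hcH, IsIso.inv_hom_id_assoc, hx, Category.assoc]⟩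
  choose cH hcH using hall
  have hinj : ∀ (B : Type u) [CommRing B] [Algebra R B] (a b : MonoidAlgebra R M →ₐ[R] B),
      pt a ≫ e ≫ i = pt b ≫ e ≫ i → a = b := fun B _ _ a b h => pt_injective ((cancel_mono (e ≫ i)).mp h)
  -- the universal point modulo `J`
  have hB : ∀ (N : Type) [CommGroup N], ∀ r ∈ J, algebraMap R (MonoidAlgebra (R ⧸ J) N) r = 0 := fun N _ r hr => by
    rw [IsScalarTower.algebraMap_apply R (R ⧸ J), Ideal.Quotient.algebraMap_eq, Ideal.Quotient.eq_zero_iff_mem.mpr hr, map_zero]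
  let u₀ : MonoidAlgebra R M' →ₐ[R] (MonoidAlgebra (R ⧸ J) M') := MonoidAlgebra.lift R _ M' (MonoidAlgebra.of (R ⧸ J) M')
  let y : M →* (MonoidAlgebra (R ⧸ J) M') := (cH (MonoidAlgebra (R ⧸ J) M') (hB M') u₀ : MonoidAlgebra R M →* (MonoidAlgebra (R ⧸ J) M')).comp (MonoidAlgebra.of R M)
  have hnat : ∀ (B : Type u) [CommRing B] [Algebra R B] (hB' : ∀ r ∈ J, algebraMap R B r = 0) (k : (MonoidAlgebra (R ⧸ J) M') →ₐ[R] B),
      cH B hB' (k.comp u₀) = k.comp (cH (MonoidAlgebra (R ⧸ J) M') (hB M') u₀) := fun B _ _ hB' k => hinj B _ _ (by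
    rw [hcH, pt_comp, pt_comp, Category.assoc, Category.assoc, hcH])
  have hconv : ∀ (B : Type u) [CommRing B] [Algebra R B] (hB' : ∀ r ∈ J, algebraMap R B r = 0) (g g' : MonoidAlgebra R M' →ₐ[R] B),
      cH B hB' (conv g g') = conv (cH B hB' g) (cH B hB' g') := fun B _ _ hB' g g' => hinj B _ _ (by
    rw [hcH, pt_conv, pt_conv, ← Category.assoc, mul_comp', mul_comp', ← Category.assoc, mul_comp', mul_comp']
    simp only [Category.assoc, hcH])
  have hyGL : ∀ m, IsGL (y m) := fun m => by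
    have hd : ((dg (R ⧸ J) M').restrictScalars R).comp u₀ =
        conv (((il (R ⧸ J) M').restrictScalars R).comp u₀) (((ir (R ⧸ J) M').restrictScalars R).comp u₀) :=
      algHom_ext_single fun a => by
        simp [conv_single, u₀, dg, il, ir, MonoidAlgebra.mapDomainAlgHom_apply, MonoidAlgebra.mapDomain_single,
          MonoidAlgebra.single_mul_single]
    refine ⟨?_, ?_⟩
    · have := congrArg (cH (MonoidAlgebra (R ⧸ J) (M' × M')) (hB _)) hd
      rw [hnat, hconv, hnat, hnat] at this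
      have := congrArg (fun f : MonoidAlgebra R M →ₐ[R] (MonoidAlgebra (R ⧸ J) (M' × M')) => f (MonoidAlgebra.single m 1)) this
      simp only [conv_single] at this
      exact this
    · have hA : ∀ r ∈ J, algebraMap R (R ⧸ J) r = 0 := fun r hr => Ideal.Quotient.eq_zero_iff_mem.mpr hr
      have h1 : ((cu (R ⧸ J) M').restrictScalars R).comp u₀ = conv (((cu (R ⧸ J) M').restrictScalars R).comp u₀) (((cu (R ⧸ J) M').restrictScalars R).comp u₀) :=
        algHom_ext_single fun a => by simp [conv_single, u₀, cu]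
      have := congrArg (cH (R ⧸ J) hA) h1
      rw [hconv, hnat] at this
      have h2 := congrArg (fun f : MonoidAlgebra R M →ₐ[R] (R ⧸ J) => f (MonoidAlgebra.single m 1)) this
      simp only [conv_single] at h2
      have hu : IsUnit (cu (R ⧸ J) M' (y m)) := ((Group.isUnit m).map y).map _
      exact hu.mul_eq_left.mp h2.symm
  have hker : ∀ x ∈ RingHom.ker (Ideal.Quotient.mk J), IsNilpotent x := fun x hx => by
    obtain ⟨n, hn⟩ := hJ
    rw [Ideal.mk_ker] at hx
    exact ⟨n, by simpa [hn] using Ideal.pow_mem_pow hx n⟩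
  choose z hz hz' using fun m => exists_isGL_lift (Ideal.Quotient.mk J) Ideal.Quotient.mk_surjective hker (hyGL m)
  let red : MonoidAlgebra R M' →ₐ[R] (MonoidAlgebra (R ⧸ J) M') := u₀
  have hred : ∀ w : MonoidAlgebra R M', ∀ a, (red w).coeff a = Ideal.Quotient.mk J (w.coeff a) := by
    intro w a
    induction w using MonoidAlgebra.induction_linear with
    | zero => simp
    | add w w' hw hw' => simp only [map_add, MonoidAlgebra.coeff_add, Finsupp.add_apply, hw, hw']
    | single b r =>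
      simp [red, u₀, Algebra.smul_def, Finsupp.single_apply, apply_ite]
      rcases eq_or_ne b a with h | h <;> simp [h]
  have hredz : ∀ m, red (z m) = y m := fun m => MonoidAlgebra.ext (Finsupp.ext fun a => by rw [hred, hz'])
  let F : M →* MonoidAlgebra R M' :=
    { toFun := z
      map_one' := (hz 1).eq_of_map_eq _ hker isGL_one fun a => by rw [← hred, ← hred, hredz, map_one, map_one]
      map_mul' := fun m n => (hz _).eq_of_map_eq _ hker ((hz m).mul (hz n)) fun a => by
        rw [← hred, ← hred, hredz, map_mul, map_mul, hredz, hredz] }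
  let Φ : MonoidAlgebra R M →ₐ[R] MonoidAlgebra R M' := MonoidAlgebra.lift R _ M F
  haveI : IsMonHom (pt Φ) := isMonHom_pt_lift F hz
  have hΦ : u₀.comp Φ = cH (MonoidAlgebra (R ⧸ J) M') (hB M') u₀ := algHom_ext_single fun m => by
    rw [AlgHom.comp_apply]; simp only [Φ, MonoidAlgebra.lift_single, one_smul]; exact hredz m
  let φ : Hv' ⟶ Hv := inv e' ≫ pt Φ ≫ e
  haveI : IsMonHom (inv e') := inferInstanceAs (IsMonHom (asIso e').inv)
  refine ⟨φ, ?_⟩
  refine hom_eq_of_fibComm hJ2 hpJ ⟨E'⟩ (φ ≫ i) i' (fun D _ _ hD g h => by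
    have := hc D hD g (h ≫ φ); rwa [Category.assoc] at this) fun B _ _ hB' k => ?_
  obtain ⟨g, hg⟩ := pt_surjective (k ≫ inv e')
  have hk : k = pt g ≫ e' := by rw [hg, Category.assoc, IsIso.inv_hom_id, Category.comp_id]
  rw [hk]
  simp only [φ, Category.assoc, IsIso.hom_inv_id_assoc]
  rw [← Category.assoc (pt g) (pt Φ), ← pt_comp]
  let kB : (MonoidAlgebra (R ⧸ J) M') →ₐ[R] B :=
    { MonoidAlgebra.liftNCRingHom (Ideal.Quotient.lift J (algebraMap R B) hB') ((g : MonoidAlgebra R M' →* B).comp (MonoidAlgebra.of R M')) (fun _ _ => Commute.all _ _) with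
      commutes' := fun r => by
        show MonoidAlgebra.liftNCRingHom _ _ _ (MonoidAlgebra.single 1 (Ideal.Quotient.mk J r)) = _
        simp [← MonoidAlgebra.one_def] }
  have hg' : kB.comp u₀ = g := algHom_ext_single fun a => by simp [kB, u₀]
  rw [show g.comp Φ = cH B hB' g from by rw [← hg', hnat, AlgHom.comp_assoc, hΦ]]
  exact hcH B hB' g

end Groth.Agent.FactLocus
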