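import Groth.Agent.FactLocus.Open
import Groth.Agent.FactLocus.Closed
import Groth.Agent.DiagAction.CentralSubgroup

/-!
The factorisation locus of a homomorphism from a group of multiplicative type through a subgroup, in a chart.
-/

universe u

open CategoryTheory Limits MonoidalCategory CartesianMonoidalCategory AlgebraicGeometry
open scoped MonObj
open CoactBr Groth.Agent.DiagGrp Groth.Agent.DiagAction

set_option linter.style.haveILetI false
set_option backward.isDefEq.respectTransparency false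

noncomputable section

namespace Groth.Agent.FactLocus

variable {S : Scheme.{u}} {H G H₁ : Over S}

/-- `u` factors through `i` above `t` -/
def Fact (i : H₁ ⟶ G) (u : H ⟶ G) {T : Scheme.{u}} (t : T ⟶ S) : Prop :=
  ∀ (Y : Over S) (_ : Y ⟶ Over.mk t) (h : Y ⟶ H), ∃ x : Y ⟶ H₁, x ≫ i = h ≫ u

variable {i : H₁ ⟶ G} {u : H ⟶ G}

theorem Fact.comp {T T' : Scheme.{u}} {t : T ⟶ S} (k : T' ⟶ T) (h : Fact i u t) : Fact i u (k ≫ t) :=
  fun Y p y => h Y (p ≫ Over.homMk k) y

theorem exists_point_of_cover [Mono i.left] (Y : Over S) (g : Y ⟶ G) {ι' : Type u} (𝒰 : ι' → Scheme.{u})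
    (f : ∀ j, 𝒰 j ⟶ Y.left) [∀ j, IsOpenImmersion (f j)] (hcov : ∀ y, ∃ j, y ∈ Set.range (f j))
    (h : ∀ j, ∃ x : 𝒰 j ⟶ H₁.left, x ≫ i.left = f j ≫ g.left) : ∃ x : Y ⟶ H₁, x ≫ i = g := by
  let O : ι' → Y.left.Opens := fun j => (f j).opensRange
  let 𝒱 := Y.left.openCoverOfIsOpenCover O (eq_top_iff.mpr fun y _ => TopologicalSpace.Opens.mem_iSup.mpr (hcov y))
  choose x hx using h
  let xx := 𝒱.glueMorphisms (fun j => (f j).isoOpensRange.inv ≫ x j) fun a b => by
    rw [← cancel_mono i.left]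
    simp only [Category.assoc, hx, Scheme.Hom.isoOpensRange_inv_comp_assoc]
    exact pullback.condition_assoc (f := 𝒱.f a) (g := 𝒱.f b) g.left
  have hxx : xx ≫ i.left = g.left := 𝒱.hom_ext _ _ fun a => by
    rw [Scheme.Cover.ι_glueMorphisms_assoc, Category.assoc, hx, Scheme.Hom.isoOpensRange_inv_comp_assoc]
    rfl
  exact ⟨Over.homMk xx (by rw [← Over.w i, reassoc_of% hxx, Over.w g]), Over.OverMorphism.ext hxx⟩

theorem fact_of_local [Mono i.left] {T : Scheme.{u}} (t : T ⟶ S)
    (h : ∀ x : T, ∃ U : T.Opens, x ∈ U ∧ Fact i u (U.ι ≫ t)) : Fact i u t := by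
  intro Y p y
  choose U hU hUt using h
  refine exists_point_of_cover Y (y ≫ u) (fun a : T => (p.left ⁻¹ᵁ U a : Scheme.{u})) (fun a => (p.left ⁻¹ᵁ U a).ι)
    (fun z => ⟨p.left z, ⟨z, hU (p.left z)⟩, rfl⟩) fun a => ?_
  let Y' : Over S := Over.mk ((p.left ⁻¹ᵁ U a).ι ≫ Y.hom)
  let k : Y' ⟶ Y := Over.homMk (p.left ⁻¹ᵁ U a).ι
  let p' : Y' ⟶ Over.mk ((U a).ι ≫ t) := Over.homMk (p.left ∣_ U a) (by
    show (p.left ∣_ U a) ≫ (U a).ι ≫ t = (p.left ⁻¹ᵁ U a).ι ≫ Y.hom
    rw [← Category.assoc, morphismRestrict_ι, Category.assoc]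
    congr 1
    exact Over.w p)
  obtain ⟨x, hx⟩ := hUt a Y' p' (k ≫ y)
  exact ⟨x.left, (congrArg CommaMorphism.left hx).trans (Category.assoc _ _ _)⟩

theorem fact_of_cover [IsImmersion i.left] {T T' : Scheme.{u}} (t : T ⟶ S) (q : T' ⟶ T) [Flat q] [Surjective q]
    (h : Fact i u (q ≫ t)) : Fact i u t := by
  intro Y p y
  let π := pullback.fst (y ≫ u).left i.left
  let g := pullback.fst p.left q
  let Y' : Over S := Over.mk (g ≫ Y.hom)
  let k : Y' ⟶ Y := Over.homMk g
  let p' : Y' ⟶ Over.mk (q ≫ t) := Over.homMk (pullback.snd p.left q) (by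
    show pullback.snd p.left q ≫ q ≫ t = pullback.fst p.left q ≫ Y.hom
    rw [← Over.w p, ← Category.assoc, ← pullback.condition, Category.assoc]
    rfl)
  obtain ⟨x, hx⟩ := h Y' p' (k ≫ y)
  let l : pullback p.left q ⟶ pullback (y ≫ u).left i.left :=
    pullback.lift g x.left ((congrArg CommaMorphism.left hx).trans (Category.assoc _ _ _)).symm
  have hl : l ≫ π = g := pullback.lift_fst _ _ _
  haveI : Surjective π := by
    haveI : Surjective (l ≫ π) := by rw [hl]; exact inferInstance
    exact Surjective.of_comp l π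
  haveI : IsClosedImmersion π := by
    refine IsClosedImmersion.of_isPreimmersion π ?_
    rw [π.surjective.range_eq]; exact isClosed_univ
  haveI : IsIso (pullback.snd π g) := by
    let sec : pullback p.left q ⟶ pullback π g := pullback.lift l (𝟙 _) (by rw [hl, Category.id_comp])
    have hsec : sec ≫ pullback.snd π g = 𝟙 _ := pullback.lift_snd _ _ _
    exact ⟨sec, by rw [← cancel_mono (pullback.snd π g), Category.assoc, hsec, Category.comp_id, Category.id_comp], hsec⟩
  haveI : IsIso π := FibrewiseCrit.isIso_of_pullback_snd π g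
  have hh : (inv π ≫ pullback.snd _ _) ≫ i.left = (y ≫ u).left := by
    rw [Category.assoc, ← pullback.condition, ← Category.assoc, IsIso.inv_hom_id, Category.id_comp]
  exact ⟨Over.homMk (inv π ≫ pullback.snd _ _) (by
      rw [← Over.w i]
      exact (Category.assoc _ _ _).symm.trans ((congrArg (fun w => w ≫ G.hom) hh).trans (Over.w (y ≫ u)))),
    Over.OverMorphism.ext hh⟩

section Chart

variable {A : Type u} [CommRing A] (v : Spec (CommRingCat.of A) ⟶ S) {M M₁ : Type} [CommGroup M] [CommGroup M₁]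
variable [GrpObj H] [GrpObj G] [GrpObj H₁] [IsMonHom i] [IsImmersion i.left] [IsMonHom u]
variable (e : sp A (MonoidAlgebra A M) ⟶ Red.bc v H) [IsMonHom e] [IsIso e]

variable (i u) in
/-- the subgroup of `D(M)` where `u` lands in the subgroup -/
abbrev facι : pullback ((downP v e).left ≫ u.left) i.left ⟶ Spec (CommRingCat.of (MonoidAlgebra A M)) :=
  pullback.fst _ _

theorem fac_iff {B : Type u} [CommRing B] [Algebra A B] (k : MonoidAlgebra A M →ₐ[A] B) :
    Fac (facι i u v e) (k : MonoidAlgebra A M →+* B) ↔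
      ∃ x : (Over.map v).obj (sp A B) ⟶ H₁, x ≫ i = downP v (pt k ≫ e) ≫ u := by
  have hleft : (downP v (pt k ≫ e) ≫ u).left =
      Spec.map (CommRingCat.ofHom (k : MonoidAlgebra A M →+* B)) ≫ (downP v e).left ≫ u.left := by
    rw [downP_comp, Over.comp_left, Over.comp_left, Category.assoc]
    rfl
  constructor
  · rintro ⟨e', he'⟩
    have hh : (e' ≫ pullback.snd _ _) ≫ i.left = (downP v (pt k ≫ e) ≫ u).left := by
      rw [hleft, Category.assoc, ← pullback.condition, reassoc_of% he']
    exact ⟨Over.homMk (e' ≫ pullback.snd _ _) (by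
        rw [← Over.w i]
        exact (Category.assoc _ _ _).symm.trans ((congrArg (fun w => w ≫ G.hom) hh).trans (Over.w _))),
      Over.OverMorphism.ext hh⟩
  · rintro ⟨x, hx⟩
    exact ⟨pullback.lift _ x.left ((congrArg CommaMorphism.left hx).trans hleft).symm, pullback.lift_fst _ _ _⟩

theorem mulClosed : MulClosed (facι i u v e) := by
  intro C _ _ x y hx hy
  obtain ⟨a, ha⟩ := (fac_iff v e x).mp hx
  obtain ⟨b, hb⟩ := (fac_iff v e y).mp hy
  refine (fac_iff v e _).mpr ⟨a * b, ?_⟩
  rw [pt_conv, mul_comp', mul_comp', downP_mul, mul_comp', ha, hb]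

theorem allFac_iff (B : Type u) [CommRing B] [Algebra A B] :
    AllFac (facι i u v e) B ↔ Fact i u (Spec.map (CommRingCat.ofHom (algebraMap A B)) ≫ v) := by
  haveI : Mono i.left := inferInstance
  constructor
  · intro h Y p y
    refine exists_point_of_cover Y (y ≫ u) Y.left.affineCover.X Y.left.affineCover.f
      (fun z => ⟨_, Y.left.affineCover.covers z⟩) fun j => ?_
    let U := Y.left.affineCover.X j
    let g₀ : Spec Γ(U, ⊤) ⟶ Spec (CommRingCat.of B) := U.isoSpec.inv ≫ Y.left.affineCover.f j ≫ p.left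
    letI : Algebra B Γ(U, ⊤) := (Spec.preimage g₀).hom.toAlgebra
    letI : Algebra A Γ(U, ⊤) := ((Spec.preimage g₀).hom.comp (algebraMap A B)).toAlgebra
    haveI : IsScalarTower A B Γ(U, ⊤) := IsScalarTower.of_algebraMap_eq fun _ => rfl
    let Z : Over (Spec (CommRingCat.of A)) := sp A Γ(U, ⊤)
    let q : (Over.map v).obj Z ⟶ Y := Over.homMk (U.isoSpec.inv ≫ Y.left.affineCover.f j) (by
      show _ = Spec.map (CommRingCat.ofHom ((Spec.preimage g₀).hom.comp (algebraMap A B))) ≫ v
      rw [CommRingCat.ofHom_comp, Spec.map_comp, CommRingCat.ofHom_hom, Spec.map_preimage]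
      simp only [g₀, Category.assoc]
      congr 2
      exact (Over.w p).symm)
    obtain ⟨k, hk⟩ := pt_surjective (upP v (q ≫ y) ≫ inv e)
    have hk' : downP v (pt k ≫ e) = q ≫ y := by rw [hk, Category.assoc, IsIso.inv_hom_id, Category.comp_id, downP_upP]
    let kB : MonoidAlgebra B M →ₐ[B] Γ(U, ⊤) :=
      MonoidAlgebra.lift B Γ(U, ⊤) M ((k : MonoidAlgebra A M →* Γ(U, ⊤)).comp (MonoidAlgebra.of A M))
    have hkk : (kB.restrictScalars A).comp (incl A B M) = k := algHom_ext_single fun m => by simp [kB]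
    have hf : Fac (facι i u v e) (k : MonoidAlgebra A M →+* Γ(U, ⊤)) := by
      have h1 := h.comp (kB : MonoidAlgebra B M →+* Γ(U, ⊤))
      rw [← incl_eq_mapRingHom] at h1
      rwa [← hkk]
    obtain ⟨x, hx⟩ := (fac_iff v e k).mp hf
    rw [hk'] at hx
    refine ⟨U.isoSpec.hom ≫ x.left, ?_⟩
    have hxl := congrArg CommaMorphism.left hx
    simp only [Over.comp_left, q, Over.homMk_left] at hxl ⊢
    rw [Category.assoc, hxl, Category.assoc, Category.assoc, Iso.hom_inv_id_assoc]
  · intro h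
    rw [AllFac, ← incl_eq_mapRingHom]
    refine (fac_iff v e (incl A B M)).mpr (h ((Over.map v).obj (sp A (MonoidAlgebra B M))) (Over.homMk
      (Spec.map (CommRingCat.ofHom (algebraMap B (MonoidAlgebra B M)))) ?_) _)
    show Spec.map _ ≫ Spec.map _ ≫ v = Spec.map _ ≫ v
    rw [← Category.assoc, ← Spec.map_comp, ← CommRingCat.ofHom_comp, ← IsScalarTower.algebraMap_eq]

theorem rigid (hchart : ∀ (C : Type u) [CommRing C] [Algebra A C],
      Nonempty (Grp.mk (Red.bc (Spec.map (CommRingCat.ofHom (algebraMap A C)) ≫ v) H) ≅ Grp.mk (sp C (MonoidAlgebra C M))) ∧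
      Nonempty (Grp.mk (Red.bc (Spec.map (CommRingCat.ofHom (algebraMap A C)) ≫ v) H₁) ≅ Grp.mk (sp C (MonoidAlgebra C M₁))))
    (hc : ∀ (X : Over S) (g : X ⟶ G) (h : X ⟶ H₁), g * (h ≫ i) = (h ≫ i) * g)
    (C : Type u) [CommRing C] [Algebra A C] (J : Ideal C) (hJ : J ^ 2 = ⊥)
    (h0 : AllFac (facι i u v e) (C ⧸ J)) : AllFac (facι i u v e) C := by
  let t := Spec.map (CommRingCat.ofHom (algebraMap A C)) ≫ v
  obtain ⟨⟨E⟩, ⟨E₁⟩⟩ := hchart C
  have h0' := (allFac_iff v e (C ⧸ J)).mp h0
  haveI : Mono i := Over.mono_of_mono_left i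
  obtain ⟨φ, hφ⟩ := exists_factor_local J ⟨2, by rw [hJ]; rfl⟩ ⟨E₁⟩ ⟨E⟩ ((Over.pullback t).map i) ((Over.pullback t).map u)
    (fun X g h => by
      apply (Over.mapPullbackAdj t).homEquiv _ _ |>.symm.injective
      show downP t _ = downP t _
      rw [downP_mul, downP_mul, downP_comp_map, hc])
    (fun X p h' => by
      let p' : (Over.map t).obj X ⟶ Over.mk (Spec.map (CommRingCat.ofHom (algebraMap A (C ⧸ J))) ≫ v) :=
        Over.homMk p.left (by
          show p.left ≫ Spec.map _ ≫ v = X.hom ≫ Spec.map _ ≫ v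
          rw [← Over.w p, IsScalarTower.algebraMap_eq A C (C ⧸ J), CommRingCat.ofHom_comp, Spec.map_comp,
            Category.assoc, Category.assoc]
          rfl)
      obtain ⟨x, hx⟩ := h0' _ p' (downP t h')
      refine ⟨upP t x, ?_⟩
      apply (Over.mapPullbackAdj t).homEquiv _ _ |>.symm.injective
      show downP t _ = downP t _
      rw [downP_comp_map, downP_comp_map, downP_upP, hx])
  refine (allFac_iff v e C).mpr fun Y p y => ?_
  let Z : Over (Spec (CommRingCat.of C)) := Over.mk p.left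
  let j : (Over.map t).obj Z ≅ Y := Over.isoMk (Iso.refl _) ((Category.id_comp _).trans (Over.w p).symm)
  refine ⟨j.inv ≫ downP t (upP t (j.hom ≫ y) ≫ φ), ?_⟩
  have := downP_comp_map t i (upP t (j.hom ≫ y) ≫ φ)
  rw [Category.assoc, hφ, downP_comp_map, downP_upP] at this
  rw [Category.assoc, ← this, Category.assoc, Iso.inv_hom_id_assoc]

variable (e₁ : sp A (MonoidAlgebra A M₁) ⟶ Red.bc v H₁) [IsMonHom e₁] [IsIso e₁]

theorem pt_pow {R : Type u} [CommRing R] {N : Type} [CommGroup N] {C : Type u} [CommRing C] [Algebra R C]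
    (a : MonoidAlgebra R N →ₐ[R] C) (n : ℕ) :
    (pt a) ^ n = pt (MonoidAlgebra.lift R C N
      (((a : MonoidAlgebra R N →* C).comp (MonoidAlgebra.of R N)).comp (powMonoidHom n))) := by
  induction n with
  | zero =>
    let ε : MonoidAlgebra R N →ₐ[R] C := MonoidAlgebra.lift R C N 1
    have h1 : pt ε = 1 := by
      have h2 := pt_conv ε ε
      rw [show conv ε ε = ε from algHom_ext_single fun m => by simp [ε]] at h2
      exact left_eq_mul.mp h2
    rw [pow_zero, ← h1]
    congr 1
    exact algHom_ext_single fun m => by simp [ε, ← MonoidAlgebra.one_def]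
  | succ n ih =>
    rw [pow_succ, ih, ← pt_conv]
    congr 1
    exact algHom_ext_single fun m => by simp [pow_succ, ← map_mul, MonoidAlgebra.single_mul_single]

theorem pow_comp' {X P Q : Over (Spec (CommRingCat.of A))} [GrpObj P] [GrpObj Q]
    (f : P ⟶ Q) [IsMonHom f] (a : X ⟶ P) (n : ℕ) : (a ^ n) ≫ f = (a ≫ f) ^ n := by
  induction n with
  | zero => rw [pow_zero, pow_zero]; exact one_comp' f
  | succ n ih => rw [pow_succ, pow_succ, mul_comp', ih]

instance finite_qn [Group.FG M₁] (n : ℕ) [NeZero n] : Finite (Qn M₁ n) :=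
  CommGroup.finite_of_fg_torsion (Qn M₁ n) fun x => isOfFinOrder_iff_pow_eq_one.mpr ⟨n, NeZero.pos n, by
    induction x using QuotientGroup.induction_on with
    | H y => rw [← QuotientGroup.mk_pow]; exact (QuotientGroup.eq_one_iff _).mpr ⟨y, rfl⟩⟩

include e₁ in
theorem torClosed [IsSeparated G.hom] [Group.FG M₁] : TorClosed (facι i u v e) := by
  intro n hn
  haveI : NeZero n := ⟨hn.ne'⟩
  let iv := (Over.pullback v).map i
  let uv := (Over.pullback v).map u
  let q₁ : MonoidAlgebra A M₁ →ₐ[A] MonoidAlgebra A (Qn M₁ n) :=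
    MonoidAlgebra.mapDomainAlgHom A A (QuotientGroup.mk' _)
  let q : MonoidAlgebra A M →ₐ[A] MonoidAlgebra A (Qn M n) :=
    MonoidAlgebra.mapDomainAlgHom A A (QuotientGroup.mk' _)
  let j : sp A (MonoidAlgebra A (Qn M₁ n)) ⟶ Red.bc v G := pt q₁ ≫ e₁ ≫ iv
  haveI : IsClosedImmersion j.left := by
    haveI : IsClosedImmersion (pt q₁).left := by
      rw [pt_left]
      refine IsClosedImmersion.spec_of_surjective _ ?_
      exact fun z => (Finsupp.mapDomain_surjective (QuotientGroup.mk'_surjective _) z.coeff).elim fun w hw => ⟨MonoidAlgebra.ofCoeff w, MonoidAlgebra.ext hw⟩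
    haveI : IsImmersion iv.left := by
      have h1 : IsPullback (pullback.fst H₁.hom v) iv.left i.left (pullback.fst G.hom v) := by
        refine IsPullback.of_bot ?_ (pullback.lift_fst _ _ _).symm (IsPullback.of_hasPullback G.hom v)
        have h2 : iv.left ≫ pullback.snd G.hom v = pullback.snd H₁.hom v := pullback.lift_snd _ _ _
        rw [h2, Over.w i]
        exact IsPullback.of_hasPullback H₁.hom v
      exact MorphismProperty.of_isPullback h1 ‹IsImmersion i.left›
    haveI : IsIso e₁.left := inferInstanceAs (IsIso ((Over.forget _).map e₁))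
    haveI : IsImmersion j.left := by
      simp only [j, Over.comp_left]; infer_instance
    haveI : Module.Finite A (MonoidAlgebra A (Qn M₁ n)) :=
      Module.Finite.equiv (MonoidAlgebra.coeffLinearEquiv A).symm
    haveI : IsFinite (sp A (MonoidAlgebra A (Qn M₁ n))).hom := by
      show IsFinite (Spec.map (CommRingCat.ofHom (algebraMap A (MonoidAlgebra A (Qn M₁ n)))))
      rw [IsFinite.SpecMap_iff]
      exact RingHom.finite_algebraMap.mpr inferInstance
    haveI : IsSeparated (Red.bc v G).hom := inferInstanceAs (IsSeparated (pullback.snd G.hom v))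
    haveI : IsProper (j.left ≫ (Red.bc v G).hom) := by rw [Over.w j]; infer_instance
    haveI : IsProper j.left := IsProper.of_comp j.left (Red.bc v G).hom
    exact IsClosedImmersion.of_isPreimmersion _ j.left.isClosedMap.isClosed_range
  obtain ⟨I, -, hI⟩ := exists_ker_criterion (pullback.snd j.left (pt q ≫ e ≫ uv).left)
  refine ⟨I, fun C _ k => ?_⟩
  rw [← hI C k]
  letI : Algebra A C := (k.comp (algebraMap A (MonoidAlgebra A (Qn M n)))).toAlgebra
  let ka : MonoidAlgebra A (Qn M n) →ₐ[A] C := { k with commutes' := fun r => rfl }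
  have hkq : k.comp (qn A M n) = (ka.comp q : MonoidAlgebra A M →+* C) := rfl
  rw [hkq, fac_iff]
  have hdown : downP v (pt (ka.comp q) ≫ e) ≫ u = downP v (pt (ka.comp q) ≫ e ≫ uv) := by
    rw [← Category.assoc, downP_comp_map]
  rw [hdown]
  constructor
  · rintro ⟨x, hx⟩
    obtain ⟨a, ha⟩ := pt_surjective (upP v x ≫ inv e₁)
    have ha' : pt a ≫ e₁ ≫ iv = pt (ka.comp q) ≫ e ≫ uv := by
      rw [ha, Category.assoc, IsIso.inv_hom_id_assoc]
      apply (Over.mapPullbackAdj v).homEquiv _ _ |>.symm.injective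
      show downP v _ = downP v _
      rw [downP_comp_map, downP_upP, hx]
    have hpow : pt (ka.comp q) ^ n = 1 := by
      rw [pt_pow, ← pow_zero (pt (ka.comp q)), pt_pow]
      congr 1
      refine algHom_ext_single fun m => ?_
      have hm : (QuotientGroup.mk' (powMonoidHom n : M →* M).range) (m ^ n) = 1 :=
        (QuotientGroup.eq_one_iff _).mpr ⟨m, rfl⟩
      simp only [MonoidAlgebra.lift_single, one_smul, MonoidHom.comp_apply, powMonoidHom_apply, MonoidAlgebra.of_apply, pow_zero]
      show ka (q (MonoidAlgebra.single (m ^ n) 1)) = ka (q (MonoidAlgebra.single 1 1))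
      simp only [q, MonoidAlgebra.mapDomainAlgHom_apply, MonoidAlgebra.mapDomain_single, hm, map_one]
    have hpa : pt a ^ n = 1 := by
      haveI : Mono i := Over.mono_of_mono_left i
      haveI : Mono iv := inferInstanceAs (Mono ((Over.pullback v).map i))
      rw [← cancel_mono (e₁ ≫ iv), one_comp', pow_comp', ha', ← pow_comp', hpow, one_comp']
    rw [pt_pow, ← pow_zero (pt a), pt_pow] at hpa
    have hpow1 : ∀ m : M₁, a (MonoidAlgebra.single (m ^ n) 1) = 1 := fun m => by
      have := DFunLike.congr_fun (pt_injective hpa) (MonoidAlgebra.single m 1)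
      simpa [← MonoidAlgebra.one_def] using this
    let χ : M₁ →* Cˣ := ((a : MonoidAlgebra A M₁ →* C).comp (MonoidAlgebra.of A M₁)).toHomUnits
    let χ' : Qn M₁ n →* Cˣ := QuotientGroup.lift _ χ (by
      rintro _ ⟨y, rfl⟩
      exact Units.ext (hpow1 y))
    let a' : MonoidAlgebra A (Qn M₁ n) →ₐ[A] C := MonoidAlgebra.lift A C (Qn M₁ n) ((Units.coeHom C).comp χ')
    have ha'' : a'.comp q₁ = a := algHom_ext_single fun m => by simp [a', q₁, χ', χ]
    refine ⟨pullback.lift (pt a').left (Spec.map (CommRingCat.ofHom k)) ?_, pullback.lift_snd _ _ _⟩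
    have h3 : pt a' ≫ j = pt ka ≫ pt q ≫ e ≫ uv := by
      simp only [j]
      rw [← Category.assoc (pt a'), ← pt_comp, ha'', ha', pt_comp, Category.assoc]
    exact congrArg CommaMorphism.left h3
  · rintro ⟨e', he'⟩
    let y := e' ≫ pullback.fst _ _
    have hy : y ≫ j.left = (pt ka ≫ pt q ≫ e ≫ uv).left := by
      simp only [y, Category.assoc, pullback.condition]
      rw [reassoc_of% he']
      rfl
    let yy : sp A C ⟶ sp A (MonoidAlgebra A (Qn M₁ n)) := Over.homMk y (by
      rw [← Over.w j, reassoc_of% hy, Over.w])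
    have hyy : yy ≫ j = pt ka ≫ pt q ≫ e ≫ uv := Over.OverMorphism.ext hy
    refine ⟨downP v (yy ≫ pt q₁ ≫ e₁), ?_⟩
    rw [← downP_comp_map]
    simp only [Category.assoc]
    rw [pt_comp, Category.assoc, ← hyy]

end Chart

end Groth.Agent.FactLocus
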