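import Groth.Agent.FactLocus.Equal
import Groth.Agent.FactLocus.FibreFactor
import Groth.Agent.FactLocus.AffineHom

/-!
A neighbourhood of a point where a homomorphism factors through a subgroup which is central on the fibre.
-/

universe u

open CategoryTheory Limits MonoidalCategory CartesianMonoidalCategory AlgebraicGeometry
open scoped MonObj
open CoactBr Groth.Agent.DiagGrp Groth.Agent.DiagAction Groth.Agent.CentralDescent

set_option linter.style.haveILetI false
set_option backward.isDefEq.respectTransparency false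

noncomputable section

namespace Groth.Agent.FactLocus

variable {S : Scheme.{u}} {H G H₁ : Over S} [GrpObj H] [GrpObj G] [GrpObj H₁]

/-- the points of `G` above `t` commute with those of `i` -/
def Cent (i : H₁ ⟶ G) {T : Scheme.{u}} (t : T ⟶ S) : Prop :=
  ∀ (Y : Over S) (_ : Y ⟶ Over.mk t) (g : Y ⟶ G) (h : Y ⟶ H₁), g * (h ≫ i) = (h ≫ i) * g

omit [GrpObj H] in
theorem cent_of_bc {i : H₁ ⟶ G} [IsMonHom i] {T : Scheme.{u}} (t : T ⟶ S)
    (hc : ∀ (X : Over T) (g : X ⟶ Red.bc t G) (h : X ⟶ Red.bc t H₁),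
      g * (h ≫ (Over.pullback t).map i) = (h ≫ (Over.pullback t).map i) * g) : Cent i t := by
  intro Y p g h
  let Z : Over T := Over.mk p.left
  let e : (Over.map t).obj Z ≅ Y := Over.isoMk (Iso.refl _) ((Category.id_comp _).trans (Over.w p).symm)
  have := congrArg (downP t) (hc Z (upP t (e.hom ≫ g)) (upP t (e.hom ≫ h)))
  rw [downP_mul, downP_mul, downP_comp_map, downP_upP, downP_upP, Category.assoc, ← MonObj.comp_mul, ← MonObj.comp_mul,
    cancel_epi] at this
  exact this

omit [GrpObj H₁] [GrpObj H] in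
theorem Cent.comp {i : H₁ ⟶ G} {T T' : Scheme.{u}} {t : T ⟶ S} (k : T' ⟶ T) (h : Cent i t) : Cent i (k ≫ t) :=
  fun Y p g y => h Y (p ≫ Over.homMk k) g y

/-- an algebra killed by `p` in which the complement of `p` is invertible lies over the residue field -/
theorem exists_factor_residue {A : Type u} [CommRing A] (p : Ideal A) [p.IsPrime] {D : Type u} [CommRing D] (φ : A →+* D)
    (h0 : ∀ x ∈ p, φ x = 0) (hu : ∀ a ∉ p, IsUnit (φ a)) :
    ∃ ψ : p.ResidueField →+* D, ψ.comp (algebraMap A p.ResidueField) = φ := by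
  let l : Localization.AtPrime p →+* D := IsLocalization.lift (M := p.primeCompl) (g := φ) fun y => hu y y.2
  have hl : l.comp (algebraMap A (Localization.AtPrime p)) = φ := IsLocalization.lift_comp _
  have hm : IsLocalRing.maximalIdeal (Localization.AtPrime p) ≤ RingHom.ker l := by
    rw [← Localization.AtPrime.map_eq_maximalIdeal, Ideal.map_le_iff_le_comap]
    intro x hx
    show l (algebraMap A _ x) = 0
    rw [← RingHom.comp_apply, hl]
    exact h0 x hx
  refine ⟨Ideal.Quotient.lift _ l hm, ?_⟩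
  ext x
  show l (algebraMap A _ x) = φ x
  rw [← RingHom.comp_apply, hl]

variable {i : H₁ ⟶ G} {u : H ⟶ G} [IsMonHom i] [IsImmersion i.left] [IsMonHom u]

theorem rigid_fibre {A : Type u} [CommRing A] (v : Spec (CommRingCat.of A) ⟶ S) {M M₁ : Type} [CommGroup M] [CommGroup M₁]
    (e : sp A (MonoidAlgebra A M) ⟶ Red.bc v H) [IsMonHom e] [IsIso e]
    (hchart : ∀ (C : Type u) [CommRing C] [Algebra A C],
      Nonempty (Grp.mk (Red.bc (Spec.map (CommRingCat.ofHom (algebraMap A C)) ≫ v) H) ≅ Grp.mk (sp C (MonoidAlgebra C M))) ∧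
      Nonempty (Grp.mk (Red.bc (Spec.map (CommRingCat.ofHom (algebraMap A C)) ≫ v) H₁) ≅ Grp.mk (sp C (MonoidAlgebra C M₁))))
    (p : Ideal A) [p.IsPrime]
    (hc : Cent i (Spec.map (CommRingCat.ofHom (algebraMap A p.ResidueField)) ≫ v))
    (C : Type u) [CommRing C] [Algebra A C] (J : Ideal C) (hJ : J ^ 2 = ⊥)
    (hpJ : ∀ x ∈ p, ∀ y ∈ J, algebraMap A C x * y = 0) (hu : ∀ a ∉ p, IsUnit (algebraMap A C a))
    (h0 : AllFac (facι i u v e) (C ⧸ J)) : AllFac (facι i u v e) C := by
  let t := Spec.map (CommRingCat.ofHom (algebraMap A C)) ≫ v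
  obtain ⟨⟨E⟩, ⟨E₁⟩⟩ := hchart C
  have h0' := (allFac_iff v e (C ⧸ J)).mp h0
  haveI : Mono i := Over.mono_of_mono_left i
  have hpC : ∀ x ∈ p.map (algebraMap A C), ∀ y ∈ J, x * y = 0 := by
    intro x hx y hy
    induction hx using Submodule.span_induction with
    | mem z hz => obtain ⟨a, ha, rfl⟩ := hz; exact hpJ a ha y hy
    | zero => rw [zero_mul]
    | add a b _ _ ha hb => rw [add_mul, ha, hb, add_zero]
    | smul r a _ ha => rw [smul_eq_mul, _root_.mul_assoc, ha, mul_zero]
  obtain ⟨φ, hφ⟩ := exists_factor_fibre J (p.map (algebraMap A C)) hJ hpC ⟨E₁⟩ ⟨E⟩ ((Over.pullback t).map i) ((Over.pullback t).map u)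
    (fun D _ _ hD g h => by
      obtain ⟨ψ, hψ⟩ := exists_factor_residue p ((algebraMap C D).comp (algebraMap A C))
        (fun x hx => hD _ (Ideal.mem_map_of_mem _ hx)) (fun a ha => (hu a ha).map (algebraMap C D))
      let pD : (Over.map t).obj (sp C D) ⟶ Over.mk (Spec.map (CommRingCat.ofHom (algebraMap A p.ResidueField)) ≫ v) :=
        Over.homMk (Spec.map (CommRingCat.ofHom ψ)) (by
          show Spec.map (CommRingCat.ofHom ψ) ≫ Spec.map _ ≫ v = Spec.map _ ≫ Spec.map _ ≫ v
          rw [← Category.assoc, ← Spec.map_comp, ← CommRingCat.ofHom_comp, hψ, CommRingCat.ofHom_comp, Spec.map_comp,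
            Category.assoc])
      apply (Over.mapPullbackAdj t).homEquiv _ _ |>.symm.injective
      show downP t _ = downP t _
      rw [downP_mul, downP_mul, downP_comp_map]
      exact hc _ pD _ _)
    (fun X q h' => by
      let q' : (Over.map t).obj X ⟶ Over.mk (Spec.map (CommRingCat.ofHom (algebraMap A (C ⧸ J))) ≫ v) :=
        Over.homMk q.left (by
          show q.left ≫ Spec.map _ ≫ v = X.hom ≫ Spec.map _ ≫ v
          rw [← Over.w q, IsScalarTower.algebraMap_eq A C (C ⧸ J), CommRingCat.ofHom_comp, Spec.map_comp,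
            Category.assoc, Category.assoc]
          rfl)
      obtain ⟨x, hx⟩ := h0' _ q' (downP t h')
      refine ⟨upP t x, ?_⟩
      apply (Over.mapPullbackAdj t).homEquiv _ _ |>.symm.injective
      show downP t _ = downP t _
      rw [downP_comp_map, downP_comp_map, downP_upP, hx])
  exact (allFac_iff v e C).mpr (fact_of_hom t φ hφ)

theorem fact_fromSpecStalk (hH : SGA3x.IsMultTypeFT H) (hH₁ : SGA3x.IsMultTypeFT H₁)
    (hG : IsLocallyNoetherian S ∨ LocallyOfFinitePresentation G.hom) (s : S)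
    (hc : Cent i (S.fromSpecResidueField s)) (hs : Fact i u (S.fromSpecResidueField s)) :
    Fact i u (S.fromSpecStalk s) := by
  have hk := locallyOfFinitePresentation_fst (i := i) (u := u) hH hH₁ hG
  obtain ⟨S', f, _, _, -, hloc⟩ := exists_common_cover hH hH₁
  obtain ⟨q, rfl⟩ := f.surjective s
  obtain ⟨V, hV, M, M₁, _, _, hqV, hM, hM₁, hchart⟩ := hloc q
  let v := hV.fromSpec ≫ f
  obtain ⟨⟨E₀⟩, -⟩ := hchart Γ(S', V)
  have hv : Spec.map (CommRingCat.ofHom (algebraMap Γ(S', V) Γ(S', V))) ≫ v = v := by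
    rw [show CommRingCat.ofHom (algebraMap Γ(S', V) Γ(S', V)) = 𝟙 _ from rfl, Spec.map_id, Category.id_comp]
  obtain ⟨c₀⟩ := bc_congr_grp hv H
  let E := c₀.symm ≪≫ E₀
  let e : sp Γ(S', V) (MonoidAlgebra Γ(S', V) M) ⟶ Red.bc v H := E.inv.hom.hom
  haveI : IsMonHom e := E.inv.hom.isMonHom_hom
  haveI : IsIso e := ((Grp.forget _).mapIso E).isIso_inv
  haveI : IsImmersion (facι i u v e) := inferInstance
  haveI : LocallyOfFinitePresentation (facι i u v e) := by
    have h1 : LocallyOfFinitePresentation (pullback.fst (downP v e).left (pullback.fst u.left i.left)) :=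
      MorphismProperty.pullback_fst _ _ hk
    rw [facι, ← pullbackRightPullbackFstIso_inv_fst u.left i.left (downP v e).left]
    infer_instance
  obtain ⟨P, hP⟩ := hV.range_fromSpec.ge hqV
  let p : PrimeSpectrum Γ(S', V) := P
  let g := Spec.map (CommRingCat.ofHom (algebraMap Γ(S', V) p.asIdeal.ResidueField)) ≫ v
  have hgz : g (default : PrimeSpectrum p.asIdeal.ResidueField) = f q := by
    simp only [g, v, Scheme.Hom.comp_apply]
    rw [← hP]
    congr 2
    refine PrimeSpectrum.ext ?_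
    show (default : PrimeSpectrum p.asIdeal.ResidueField).asIdeal.comap (algebraMap _ _) = p.asIdeal
    rw [show (default : PrimeSpectrum p.asIdeal.ResidueField).asIdeal = ⊥ from
      ((default : PrimeSpectrum p.asIdeal.ResidueField).asIdeal.eq_bot_or_top).resolve_right
        (default : PrimeSpectrum p.asIdeal.ResidueField).isPrime.ne_top]
    exact Ideal.ker_algebraMap_residueField p.asIdeal
  have hκ : Fact i u g := by rw [fact_residue_iff g (default : PrimeSpectrum p.asIdeal.ResidueField), hgz]; exact hs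
  have hcκ : Cent i g := by
    obtain ⟨⟨x, φ⟩, hxφ⟩ : ∃ r, (Scheme.SpecToEquivOfField p.asIdeal.ResidueField S).symm r = g :=
      ⟨Scheme.SpecToEquivOfField _ S g, Equiv.symm_apply_apply _ _⟩
    have hg : Spec.map φ ≫ S.fromSpecResidueField x = g := hxφ
    have hx : x = f q := by
      rw [← hgz, ← hg, Scheme.Hom.comp_apply, Scheme.fromSpecResidueField_apply]
    subst hx
    rw [← hg]
    exact hc.comp _
  obtain ⟨a, ha, hall⟩ := exists_nhd (mulClosed (i := i) (u := u) v e) p.asIdeal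
    ((allFac_iff v e _).mpr hκ) (fun C _ _ J hJ hpJ hun h0 => rigid_fibre (i := i) (u := u) v e hchart p.asIdeal hcκ C J hJ hpJ hun h0)
  have hfa := (allFac_iff v e _).mp hall
  let o := Spec.map (CommRingCat.ofHom (algebraMap Γ(S', V) (Localization.Away a))) ≫ hV.fromSpec
  haveI : IsOpenImmersion (Spec.map (CommRingCat.ofHom (algebraMap Γ(S', V) (Localization.Away a)))) :=
    IsOpenImmersion.of_isLocalization a
  haveI : IsOpenImmersion o := inferInstance
  have hq : q ∈ Set.range o := by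
    obtain ⟨z, hz⟩ := (PrimeSpectrum.localization_away_comap_range (Localization.Away a) a).ge
      (show p ∈ (PrimeSpectrum.basicOpen a : Set (PrimeSpectrum Γ(S', V))) from ha)
    exact ⟨z, (congrArg hV.fromSpec hz).trans hP⟩
  let k := IsOpenImmersion.lift o (S'.fromSpecStalk q) (by
    rw [Scheme.range_fromSpecStalk]
    intro y hy
    exact hy.mem_open o.opensRange.isOpen hq)
  have hk2 : Fact i u (S'.fromSpecStalk q ≫ f) := by
    have := hfa.comp k
    rw [← Category.assoc (Spec.map _) hV.fromSpec f, ← Category.assoc k, IsOpenImmersion.lift_fac] at this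
    exact this
  rw [← Scheme.SpecMap_stalkMap_fromSpecStalk f] at hk2
  haveI : Flat (Spec.map (f.stalkMap q)) := by
    rw [HasRingHomProperty.Spec_iff (P := @Flat)]
    exact Flat.stalkMap f q
  haveI : Surjective (Spec.map (f.stalkMap q)) := by
    rw [surjective_iff]
    algebraize [(f.stalkMap q).hom]
    have : Module.FaithfullyFlat (S.presheaf.stalk (f q)) (S'.presheaf.stalk q) :=
      @Module.FaithfullyFlat.of_flat_of_isLocalHom _ _ _ _ _ _ _ (Flat.stalkMap f q) (f.toLRSHom.prop q)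
    exact PrimeSpectrum.comap_surjective_of_faithfullyFlat
  exact fact_of_cover _ _ hk2

theorem exists_nhd_fact (hH : SGA3x.IsMultTypeFT H) (hH₁ : SGA3x.IsMultTypeFT H₁)
    (hG : IsLocallyNoetherian S ∨ LocallyOfFinitePresentation G.hom) (s : S)
    (hc : Cent i (S.fromSpecResidueField s)) (hs : Fact i u (S.fromSpecResidueField s)) :
    ∃ U : S.Opens, s ∈ U ∧ Fact i u U.ι := by
  classical
  have hst := fact_fromSpecStalk (i := i) (u := u) hH hH₁ hG s hc hs
  haveI : IsAffineHom H.hom := isAffineHom_of_isMultTypeFT H hH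
  let π₀ := pullback.fst u.left i.left
  haveI : LocallyOfFinitePresentation π₀ := locallyOfFinitePresentation_fst (i := i) (u := u) hH hH₁ hG
  obtain ⟨_, ⟨U₀, hU₀, rfl⟩, hsU₀, -⟩ := S.isBasis_affineOpens.exists_subset_of_mem_open (Set.mem_univ s) isOpen_univ
  replace hU₀ : IsAffineOpen U₀ := hU₀
  let R := Γ(S, U₀)
  let Bt := pullback H.hom hU₀.fromSpec
  haveI : IsAffine Bt := isAffine_of_isAffineHom (pullback.snd H.hom hU₀.fromSpec)
  let B := Γ(Bt, ⊤)
  let b : Spec B ⟶ H.left := Bt.isoSpec.inv ≫ pullback.fst H.hom hU₀.fromSpec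
  let ψ : R ⟶ B := Spec.preimage (Bt.isoSpec.inv ≫ pullback.snd H.hom hU₀.fromSpec)
  letI : Algebra R B := ψ.hom.toAlgebra
  have hb : b ≫ H.hom = Spec.map ψ ≫ hU₀.fromSpec := by
    rw [Spec.map_preimage]
    simp only [b, Category.assoc, pullback.condition]
  let ι' := pullback.snd π₀ b
  let W := ι'.coborderRange
  obtain ⟨J, hJ⟩ := (PrimeSpectrum.isClosed_iff_zeroLocus_ideal _).mp
    (show IsClosed (W.carrier : Set (PrimeSpectrum B))ᶜ from W.isOpen.isClosed_compl)
  obtain ⟨P, hP⟩ := hU₀.range_fromSpec.ge hsU₀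
  let p : PrimeSpectrum R := P
  -- everything factors above the local ring
  let L := Localization (Algebra.algebraMapSubmonoid B p.asIdeal.primeCompl)
  let jL : Spec (CommRingCat.of L) ⟶ Spec B := Spec.map (CommRingCat.ofHom (algebraMap B L))
  have hLfac : ∃ e : Spec (CommRingCat.of L) ⟶ pullback π₀ b, e ≫ ι' = jL := by
    let w : Spec (CommRingCat.of L) ⟶ S := jL ≫ Spec.map ψ ≫ hU₀.fromSpec
    let lp : Localization.AtPrime p.asIdeal →+* L :=
      IsLocalization.lift (M := p.asIdeal.primeCompl) (g := (algebraMap B L).comp ψ.hom)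
        fun y => IsLocalization.map_units L (⟨ψ.hom y, y, y.2, rfl⟩ : Algebra.algebraMapSubmonoid B p.asIdeal.primeCompl)
    have hrange : Set.range w ⊆ Set.range (S.fromSpecStalk s) := by
      rw [Scheme.range_fromSpecStalk]
      rintro _ ⟨z, rfl⟩
      show w z ⤳ s
      rw [← hP]
      let w₀ : PrimeSpectrum R := Spec.map ψ (jL z)
      have hle : w₀.asIdeal ≤ p.asIdeal := by
        intro x hx
        by_contra hxp
        exact (z : PrimeSpectrum L).isPrime.ne_top (Ideal.eq_top_of_isUnit_mem _ hx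
          (IsLocalization.map_units L (⟨ψ.hom x, x, hxp, rfl⟩ : Algebra.algebraMapSubmonoid B p.asIdeal.primeCompl)))
      exact ((PrimeSpectrum.le_iff_specializes w₀ p).mp hle).map hU₀.fromSpec.continuous
    let pr : Spec (CommRingCat.of (Localization.AtPrime p.asIdeal)) ⟶ S :=
      Spec.map (CommRingCat.ofHom (algebraMap R (Localization.AtPrime p.asIdeal))) ≫ hU₀.fromSpec
    have hw : w = Spec.map (CommRingCat.ofHom lp) ≫ pr := by
      simp only [w, pr, jL, ← Category.assoc, ← Spec.map_comp]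
      congr 2
      exact CommRingCat.hom_ext (IsLocalization.lift_comp _).symm
    have hpr : Fact i u pr := by
      subst hP
      let p' : PrimeSpectrum R := hU₀.primeIdealOf ⟨hU₀.fromSpec P, hsU₀⟩
      have hp' : p' = p := hU₀.fromSpec.isOpenEmbedding.injective (hU₀.fromSpec_primeIdealOf ⟨_, hsU₀⟩)
      haveI := hU₀.isLocalization_stalk ⟨hU₀.fromSpec P, hsU₀⟩
      letI : Algebra R (S.presheaf.stalk (hU₀.fromSpec P)) := (S.presheaf.germ U₀ _ hsU₀).hom.toAlgebra
      haveI : IsLocalization.AtPrime (S.presheaf.stalk (hU₀.fromSpec P)) p.asIdeal := by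
        rw [← hp']
        exact hU₀.isLocalization_stalk ⟨hU₀.fromSpec P, hsU₀⟩
      let e : S.presheaf.stalk (hU₀.fromSpec P) →+* Localization.AtPrime p.asIdeal :=
        IsLocalization.lift (M := p.asIdeal.primeCompl) (S := S.presheaf.stalk (hU₀.fromSpec P))
          (g := algebraMap R (Localization.AtPrime p.asIdeal)) fun y => IsLocalization.map_units _ y
      have he : pr = Spec.map (CommRingCat.ofHom e) ≫ S.fromSpecStalk (hU₀.fromSpec P) := by
        rw [← hU₀.fromSpecStalk_eq_fromSpecStalk hsU₀, IsAffineOpen.fromSpecStalk, ← Spec.map_comp_assoc]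
        simp only [pr]
        congr 2
        exact CommRingCat.hom_ext (IsLocalization.lift_comp _).symm
      rw [he]
      exact hst.comp _
    have hwf : Fact i u w := by rw [hw]; exact hpr.comp _
    let y : Over.mk w ⟶ H := Over.homMk (jL ≫ b) (by
      show (jL ≫ b) ≫ H.hom = w
      simp only [w, Category.assoc, hb])
    obtain ⟨x, hx⟩ := hwf (Over.mk w) (𝟙 _) y
    refine ⟨pullback.lift (pullback.lift (jL ≫ b) x.left (congrArg CommaMorphism.left hx).symm) jL
      (pullback.lift_fst _ _ _), pullback.lift_snd _ _ _⟩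
  obtain ⟨eL, heL⟩ := hLfac
  have hJL : J.map (algebraMap B L) = ⊤ := by
    by_contra hne
    obtain ⟨Q, hQ, hle⟩ := Ideal.exists_le_maximal _ hne
    have h1 : jL (⟨Q, hQ.isPrime⟩ : PrimeSpectrum L) ∈ (W.carrier : Set (PrimeSpectrum B)) :=
      subset_coborder ⟨eL ⟨Q, hQ.isPrime⟩, by rw [← Scheme.Hom.comp_apply, heL]⟩
    have h2 : ¬ jL (⟨Q, hQ.isPrime⟩ : PrimeSpectrum L) ∈ PrimeSpectrum.zeroLocus (J : Set B) := by
      rw [← hJ]; exact fun h => h h1
    exact h2 fun j hj => hle (Ideal.mem_map_of_mem _ hj)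
  obtain ⟨⟨j, ⟨_, a₁, ha₁, rfl⟩⟩, hj⟩ := (IsLocalization.mem_map_algebraMap_iff
    (Algebra.algebraMapSubmonoid B p.asIdeal.primeCompl) L (I := J) (z := 1)).mp (hJL ▸ Submodule.mem_top)
  rw [_root_.one_mul] at hj
  obtain ⟨⟨_, a₂, ha₂, rfl⟩, hj'⟩ := (IsLocalization.eq_iff_exists (Algebra.algebraMapSubmonoid B p.asIdeal.primeCompl) L).mp hj
  have hne : ∀ a b, a ∉ p.asIdeal → b ∉ p.asIdeal → a * b ∉ p.asIdeal := fun a b ha hb h =>
    (p.isPrime.mem_or_mem h).elim ha hb
  have haJ : algebraMap R B (a₂ * a₁) ∈ J := by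
    rw [map_mul]
    simp only at hj'
    rw [hj']
    exact Ideal.mul_mem_left _ _ j.2
  -- the closed piece
  let L₁ := Localization.Away (algebraMap R B (a₂ * a₁))
  let j₁ : Spec (CommRingCat.of L₁) ⟶ Spec B := Spec.map (CommRingCat.ofHom (algebraMap B L₁))
  haveI : IsClosedImmersion (pullback.snd ι' j₁) := by
    refine IsClosedImmersion.of_isPreimmersion _ ?_
    rw [Scheme.Pullback.range_snd]
    let j₁' : Spec (CommRingCat.of L₁) ⟶ W := IsOpenImmersion.lift W.ι j₁ (by
      rintro _ ⟨z, rfl⟩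
      rw [Scheme.Opens.range_ι]
      by_contra hz
      have h4 : j₁ z ∈ PrimeSpectrum.zeroLocus (J : Set B) := by rw [← hJ]; exact hz
      exact (z : PrimeSpectrum L₁).isPrime.ne_top (Ideal.eq_top_of_isUnit_mem _ (h4 haJ)
        (IsLocalization.Away.algebraMap_isUnit _)))
    have hj₁ : j₁' ≫ W.ι = j₁ := IsOpenImmersion.lift_fac _ _ _
    have he : j₁ ⁻¹' Set.range ι' = j₁' ⁻¹' Set.range ι'.liftCoborder := by
      have h1 : Set.range ι' = W.ι '' Set.range ι'.liftCoborder := by
        rw [← Set.range_comp, ← TopCat.coe_comp, ← Scheme.Hom.comp_base, Scheme.Hom.liftCoborder_ι]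
      rw [h1, ← hj₁, Scheme.Hom.comp_base, TopCat.coe_comp, Set.preimage_comp,
        Set.preimage_image_eq _ W.ι.isOpenEmbedding.injective]
    rw [he]
    exact ι'.liftCoborder.isClosedEmbedding.isClosed_range.preimage j₁'.continuous
  obtain ⟨I₁, hI₁, hcrit⟩ := exists_ker_criterion (pullback.snd ι' j₁)
  obtain ⟨F, hF⟩ := hI₁ inferInstance
  have hu₁ : IsUnit (algebraMap B L (algebraMap R B (a₂ * a₁))) :=
    IsLocalization.map_units L (⟨_, a₂ * a₁, hne _ _ ha₂ ha₁, rfl⟩ : Algebra.algebraMapSubmonoid B p.asIdeal.primeCompl)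
  let k₁ : L₁ →+* L := IsLocalization.Away.lift _ (g := algebraMap B L) hu₁
  have hk₁ : k₁.comp (algebraMap B L₁) = algebraMap B L := IsLocalization.Away.lift_comp _ hu₁
  have hF0 : ∀ z ∈ F, k₁ z = 0 := fun z hz => by
    refine (hcrit L k₁).mp ⟨pullback.lift eL (Spec.map (CommRingCat.ofHom k₁)) ?_, pullback.lift_snd _ _ _⟩
      (hF ▸ Submodule.subset_span hz)
    simp only [heL, j₁, ← Spec.map_comp, ← CommRingCat.ofHom_comp, hk₁]
    rfl
  have hnumF : ∀ z : L₁, ∃ y : B, ∃ n : ℕ, z * algebraMap B L₁ (algebraMap R B (a₂ * a₁) ^ n) = algebraMap B L₁ y := fun z => by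
    obtain ⟨⟨y, _, n, rfl⟩, hz⟩ := IsLocalization.surj (Submonoid.powers (algebraMap R B (a₂ * a₁))) z
    exact ⟨y, n, hz⟩
  choose nm pw hnm using hnumF
  have hkill : ∀ z : F, ∃ c ∉ p.asIdeal, algebraMap R B c * nm z = 0 := fun z => by
    have h := congrArg k₁ (hnm z)
    rw [map_mul, hF0 _ z.2, zero_mul, ← RingHom.comp_apply, hk₁] at h
    obtain ⟨⟨_, c, hc', rfl⟩, hc⟩ := (IsLocalization.map_eq_zero_iff (Algebra.algebraMapSubmonoid B p.asIdeal.primeCompl) L _).mp h.symm
    exact ⟨c, hc', hc⟩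
  choose c hcp hc0 using hkill
  let a : R := a₂ * a₁ * ∏ z : F, c z
  have ha : a ∉ p.asIdeal := hne _ _ (hne _ _ ha₂ ha₁) fun hmem => by
    obtain ⟨z, -, hz⟩ := (p.isPrime.prod_mem_iff).mp hmem
    exact hcp z hz
  let U : S.Opens := S.basicOpen a
  have hU : hU₀.fromSpec ''ᵁ PrimeSpectrum.basicOpen a = U := hU₀.fromSpec_image_basicOpen a
  refine ⟨U, ?_, fun Y q y => ?_⟩
  · rw [← hU, ← hP]
    exact ⟨p, ha, rfl⟩
  · refine exists_point_of_cover Y (y ≫ u) Y.left.affineCover.X Y.left.affineCover.f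
      (fun z => ⟨_, Y.left.affineCover.covers z⟩) fun n => ?_
    let Uc := Y.left.affineCover.X n
    let D := Γ(Uc, ⊤)
    let d := Uc.isoSpec.inv ≫ Y.left.affineCover.f n
    let qU := d ≫ q.left ≫ S.homOfLE (S.basicOpen_le a)
    let dR : Spec D ⟶ Spec R := qU ≫ hU₀.isoSpec.hom
    have hdR : dR ≫ hU₀.fromSpec = d ≫ Y.hom := by
      simp only [dR, qU, Category.assoc, IsAffineOpen.fromSpec, IsAffineOpen.isoSpec_hom]
      rw [show Scheme.Opens.toSpecΓ U₀ ≫ hU₀.isoSpec.inv ≫ Scheme.Opens.ι U₀ = Scheme.Opens.ι U₀ by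
          rw [← IsAffineOpen.isoSpec_hom hU₀, Iso.hom_inv_id_assoc],
        Scheme.homOfLE_ι]
      congr 1
      exact Over.w q
    let dB : Spec D ⟶ Spec B := pullback.lift (d ≫ y.left) dR (by rw [Category.assoc, Over.w y, hdR]) ≫ Bt.isoSpec.hom
    have hdBb : dB ≫ b = d ≫ y.left := by simp [dB, b]
    have hdBψ : dB ≫ Spec.map ψ = dR := by
      rw [Spec.map_preimage]
      simp [dB]
    have hunit : IsUnit ((Spec.preimage dB).hom (algebraMap R B a)) := by
      have h0 : (Spec.preimage dB).hom (algebraMap R B a) = (Spec.preimage dR).hom a := by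
        rw [← hdBψ]
        have : Spec.preimage (dB ≫ Spec.map ψ) = ψ ≫ Spec.preimage dB :=
          Spec.map_injective (by rw [Spec.map_preimage, Spec.map_comp, Spec.map_preimage dB])
        rw [this]
        rfl
      rw [h0]
      by_contra hnu
      obtain ⟨Q, hQ, haQ⟩ := exists_max_ideal_of_mem_nonunits hnu
      have h1 : dR (⟨Q, hQ.isPrime⟩ : PrimeSpectrum D) ∈ PrimeSpectrum.basicOpen a := by
        have h2 : hU₀.fromSpec (dR (⟨Q, hQ.isPrime⟩ : PrimeSpectrum D)) ∈ U := by
          rw [← Scheme.Hom.comp_apply, hdR, ← Over.w q]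
          exact ((q.left (d ⟨Q, hQ.isPrime⟩)).2)
        rw [← hU] at h2
        obtain ⟨w', hw', hww⟩ := h2
        rwa [← hU₀.fromSpec.isOpenEmbedding.injective hww]
      rw [← Spec.map_preimage dR] at h1
      exact h1 haQ
    rw [map_mul] at hunit
    let k₂ : L₁ →+* D := IsLocalization.Away.lift _ (g := (Spec.preimage dB).hom)
      (show IsUnit ((Spec.preimage dB).hom (algebraMap R B (a₂ * a₁))) from by
        rw [map_mul] at hunit; exact isUnit_of_mul_isUnit_left hunit)
    have hk₂ : k₂.comp (algebraMap B L₁) = (Spec.preimage dB).hom := IsLocalization.Away.lift_comp _ _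
    have h2 : I₁ ≤ RingHom.ker k₂ := by
      rw [← hF]
      refine Submodule.span_le.mpr fun z hz => ?_
      have h3 := congrArg k₂ (hnm z)
      rw [map_mul, ← RingHom.comp_apply k₂, ← RingHom.comp_apply k₂ (algebraMap B L₁) (nm z), hk₂] at h3
      have h4 : (Spec.preimage dB).hom (nm z) = 0 := by
        have h5 : algebraMap R B (∏ z : F, c z) * nm z = 0 := by
          rw [← Finset.prod_erase_mul (a := (⟨z, hz⟩ : F)) Finset.univ _ (Finset.mem_univ _), map_mul, _root_.mul_assoc]
          exact (congrArg _ (hc0 ⟨z, hz⟩)).trans (mul_zero _)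
        have h6 := congrArg (Spec.preimage dB).hom h5
        rw [map_mul, map_zero] at h6
        rw [map_mul] at hunit
        exact (isUnit_of_mul_isUnit_right hunit).mul_right_eq_zero.mp h6
      rw [h4, map_pow] at h3
      have hu2 : IsUnit ((Spec.preimage dB).hom (algebraMap R B (a₂ * a₁))) := by
        rw [map_mul] at hunit; exact isUnit_of_mul_isUnit_left hunit
      exact (hu2.pow _).mul_left_eq_zero.mp h3
    obtain ⟨e', he'⟩ := (hcrit _ k₂).mpr h2
    let ee : Spec D ⟶ pullback π₀ b := e' ≫ pullback.fst _ _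
    have hee : ee ≫ ι' = dB := by
      simp only [ee, Category.assoc, pullback.condition]
      rw [reassoc_of% he']
      simp only [j₁, ← Spec.map_comp]
      rw [← CommRingCat.ofHom_comp, hk₂]
      exact Spec.map_preimage dB
    have h1 : ee ≫ pullback.fst π₀ b ≫ π₀ = d ≫ y.left := by
      rw [pullback.condition, ← Category.assoc ee]
      exact (congrArg (fun w => w ≫ b) hee).trans hdBb
    refine ⟨Uc.isoSpec.hom ≫ ee ≫ pullback.fst π₀ b ≫ pullback.snd u.left i.left, ?_⟩
    have h2 : pullback.snd u.left i.left ≫ i.left = π₀ ≫ u.left := pullback.condition.symm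
    simp only [Category.assoc]
    rw [h2]
    rw [reassoc_of% h1]
    simp only [d, Category.assoc, Iso.hom_inv_id_assoc, Over.comp_left]

end Groth.Agent.FactLocus
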