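import Groth.Agent.FactLocus.FibreEqual
import Groth.Agent.CoeffLocus.Locus

/-!
Where a point normalizing a subgroup of multiplicative type centralizes it.
-/

universe u

open CategoryTheory Limits MonoidalCategory CartesianMonoidalCategory MonObj GrpObj AlgebraicGeometry
open CoactBr Groth.Agent.DiagGrp Groth.Agent.DiagAction Groth.Agent.CentralDescent Groth.Agent.CoeffLocus

set_option linter.style.haveILetI false
set_option backward.isDefEq.respectTransparency false

noncomputable section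

namespace Groth.Agent.FactLocus

variable {S : Scheme.{u}} {H G : Over S} [GrpObj H] [GrpObj G] (i : H ⟶ G) [IsMonHom i] [Mono i]

theorem exists_clopen_commLocus (hH : SGA3x.IsMultTypeFT H) {X : Over S} (g : X ⟶ G)
    (hn : ∀ (X' : Over S) (x : X' ⟶ X) (h : X' ⟶ H), ∃ h' : X' ⟶ H, (x ≫ g) * (h ≫ i) * (x ≫ g)⁻¹ = h' ≫ i) :
    ∃ U : X.left.Opens, IsClosed (U : Set X.left) ∧ ∀ (Y : Over S) (k : Y ⟶ X),
      Set.range k.left ⊆ (U : Set X.left) ↔
        ∀ (Y' : Over S) (x : Y' ⟶ Y) (h : Y' ⟶ H), (x ≫ k ≫ g) * (h ≫ i) = (h ≫ i) * (x ≫ k ≫ g) := by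
  let t := X.hom
  let Hb := Red.bc t H
  let gX (Z : Over X.left) : (Over.map t).obj Z ⟶ X := Over.homMk Z.hom
  have hgY : ∀ (Z Z' : Over X.left) (a : Z ⟶ Z'), (Over.map t).map a ≫ gX Z' = gX Z := fun Z Z' a =>
    Over.OverMorphism.ext (Over.w a)
  obtain ⟨n', hn'⟩ := hn ((Over.map t).obj Hb) (gX Hb) (downP t (𝟙 Hb))
  let c : Hb ⟶ Hb := upP t n'
  have hpt : ∀ (Z : Over X.left) (a : Z ⟶ Hb),
      downP t (a ≫ c) ≫ i = (gX Z ≫ g) * (downP t a ≫ i) * (gX Z ≫ g)⁻¹ := by
    intro Z a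
    rw [downP_comp, downP_upP, Category.assoc, ← hn']
    simp only [MonObj.comp_mul, GrpObj.comp_inv, reassoc_of% hgY]
    rw [← Category.assoc _ (downP t (𝟙 Hb)) i, ← downP_comp, Category.comp_id]
  haveI : IsMonHom c := isMonHom_of_mul c fun Z a b => by
    apply (Over.mapPullbackAdj t).homEquiv _ _ |>.symm.injective
    show downP t _ = downP t _
    rw [← cancel_mono i, hpt, downP_mul, downP_mul, MonObj.mul_comp, MonObj.mul_comp, hpt, hpt]
    group
  have hHb := Groth.Agent.CentralDescent.isMultTypeFT_bc t H hH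
  haveI : IsMonHom (c * (𝟙 Hb)⁻¹) :=
    isMonHom_mul_inv (𝟙 Hb) c fun Z g h => mul_comm_points hHb _ _
  haveI : IsAffineHom Hb.hom := isAffineHom_of_isMultTypeFT Hb hHb
  haveI : LocallyOfFinitePresentation Hb.hom := locallyOfFinitePresentation_of_isMultTypeFT Hb hHb
  obtain ⟨U, hUc, hU, hUt⟩ := exists_clopen_trivLocus Hb Hb hHb (Or.inr inferInstance) (c * (𝟙 Hb)⁻¹)
  have hmul : ∀ (Z : Over X.left) (a : Z ⟶ Hb), a ≫ (c * (𝟙 Hb)⁻¹) = 1 ↔
      (gX Z ≫ g) * (downP t a ≫ i) = (downP t a ≫ i) * (gX Z ≫ g) := fun Z a => by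
    rw [MonObj.comp_mul, GrpObj.comp_inv, Category.comp_id, mul_inv_eq_one, ← eq_mul_inv_iff_mul_eq.trans eq_comm]
    refine ⟨fun h => ?_, fun h => ?_⟩
    · rw [← hpt, h]
    · apply (Over.mapPullbackAdj t).homEquiv _ _ |>.symm.injective
      show downP t _ = downP t _
      rw [← cancel_mono i, hpt, ← h]
  refine ⟨U, hUc, fun Y k => ⟨fun hk Y' x h => ?_, fun hk => ?_⟩⟩
  · let Z : Over X.left := Over.mk (x ≫ k).left
    let j : (Over.map t).obj Z ≅ Y' := Over.isoMk (Iso.refl _) (by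
      show 𝟙 _ ≫ Y'.hom = (x ≫ k).left ≫ t
      rw [Category.id_comp]
      exact (Over.w (x ≫ k)).symm)
    have := (hmul Z _).mp (hUt Z (Over.homMk (IsOpenImmersion.lift U.ι (x ≫ k).left (by
      rintro _ ⟨y, rfl⟩
      exact (Scheme.Opens.range_ι U).ge (hk ⟨x.left y, rfl⟩))) (IsOpenImmersion.lift_fac _ _ _)) (upP t (j.hom ≫ h)))
    rw [downP_upP, show gX Z = j.hom ≫ x ≫ k from Over.OverMorphism.ext (Category.id_comp _).symm] at this
    rw [← cancel_epi j.hom, MonObj.comp_mul, MonObj.comp_mul]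
    simpa only [Category.assoc] using this
  · rintro _ ⟨y, rfl⟩
    let z : ↥(Spec (Y.left.residueField y)) := IsLocalRing.closedPoint (Y.left.residueField y)
    have hz : (Y.left.fromSpecResidueField y ≫ k.left) z = k.left y := by
      rw [Scheme.Hom.comp_apply, Scheme.fromSpecResidueField_apply]
    show k.left y ∈ U
    rw [hU, ← hz]
    refine (triv_residue_iff (u := c * (𝟙 Hb)⁻¹) (Y.left.fromSpecResidueField y ≫ k.left) z).mp ?_
    intro Z p a
    rw [hmul]
    let x : (Over.map t).obj Z ⟶ Y := Over.homMk (p.left ≫ Y.left.fromSpecResidueField y) (by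
      show (p.left ≫ Y.left.fromSpecResidueField y) ≫ Y.hom = Z.hom ≫ t
      rw [← Over.w k, ← Over.w p]
      simp [t])
    have hx : gX Z = x ≫ k := Over.OverMorphism.ext ((Over.w p).symm.trans (Category.assoc _ _ _).symm)
    rw [hx, Category.assoc]
    exact hk _ x _

end Groth.Agent.FactLocus
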