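import Groth.Agent.FactLocus.Basic

/-!
The locus where all points factor through a subgroup of `D(M)` is open (given rigidity), and closed when the
torsion subgroups meet the subgroup in closed subschemes.
-/

universe u

open CategoryTheory Limits AlgebraicGeometry
open Groth.Agent.DiagGrp MonoidAlgebra

set_option linter.style.haveILetI false
set_option backward.isDefEq.respectTransparency false

noncomputable section

namespace Groth.Agent.FactLocus

variable {A : Type u} [CommRing A] {M : Type} [CommGroup M] {E : Scheme.{u}}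
variable {ι : E ⟶ Spec (CommRingCat.of (MonoidAlgebra A M))} [IsImmersion ι]

theorem map_nzd_field {R : Type u} [CommRing R] [IsLocalRing R] {f : MonoidAlgebra R M}
    (hf : ∀ m, (f - 1).coeff m ∈ IsLocalRing.maximalIdeal R) (B : Type u) [CommRing B] [Algebra R B]
    (C : Type u) [CommRing C] [Algebra B C] (g : MonoidAlgebra C M)
    (h : mapRingHom M (algebraMap B C) (mapRingHom M (algebraMap R B) f) * g = 0) : g = 0 := by
  letI : Algebra R C := ((algebraMap B C).comp (algebraMap R B)).toAlgebra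
  refine eq_zero_of_map_mul_eq_zero f hf C g ?_
  rw [RingHom.algebraMap_toAlgebra, mapRingHom_comp]
  exact h

theorem exists_killer_finset {R : Type u} [CommRing R] (p : Ideal R) [p.IsPrime] (F : Finset R)
    (h : ∀ x ∈ F, algebraMap R (Localization.AtPrime p) x = 0) : ∃ s ∉ p, ∀ x ∈ F, s * x = 0 := by
  classical
  have hx : ∀ x : F, ∃ m : p.primeCompl, (m : R) * x = 0 := fun x =>
    (IsLocalization.map_eq_zero_iff p.primeCompl _ x.1).mp (h x.1 x.2)
  choose m hm using hx
  refine ⟨∏ x : F, (m x : R), ?_, fun x hx => ?_⟩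
  · intro hmem
    obtain ⟨x, -, hxp⟩ := (Ideal.IsPrime.prod_mem_iff).mp hmem
    exact (m x).2 hxp
  · rw [← Finset.prod_erase_mul (a := (⟨x, hx⟩ : F)) Finset.univ _ (Finset.mem_univ _), mul_assoc, hm ⟨x, hx⟩, mul_zero]

/-- A neighbourhood of a point above which everything factors. -/
theorem exists_nhd (hmul : MulClosed ι) [LocallyOfFinitePresentation ι] (p : Ideal A) [p.IsPrime]
    (hκ : AllFac ι p.ResidueField)
    (hrig : ∀ (C : Type u) [CommRing C] [Algebra A C] (J : Ideal C), J ^ 2 = ⊥ →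
      (∀ x ∈ p, ∀ y ∈ J, algebraMap A C x * y = 0) →
      (∀ a ∉ p, IsUnit (algebraMap A C a)) → AllFac ι (C ⧸ J) → AllFac ι C) :
    ∃ a ∉ p, AllFac ι (Localization.Away a) := by
  classical
  let R := Localization.AtPrime p
  obtain ⟨J, hJ⟩ := exists_coborder_ideal ι
  have htopκ := map_coborder_eq_top hJ hκ
  obtain ⟨a₀, ha₀, j, hj, hje⟩ := exists_scalar_mem (algebraMap A p.ResidueField) p (fun b => by
    obtain ⟨b', rfl⟩ := IsLocalRing.residue_surjective b
    obtain ⟨⟨x, s, hs⟩, hb⟩ := IsLocalization.surj p.primeCompl b'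
    refine ⟨x, s, hs, ?_⟩
    have := congrArg (IsLocalRing.residue R) hb
    rw [map_mul] at this
    exact this) J 1 (htopκ ▸ Submodule.mem_top)
  have hu : IsUnit (algebraMap A R a₀) := IsLocalization.map_units R (⟨a₀, ha₀⟩ : p.primeCompl)
  obtain ⟨u₀, hu₀⟩ := hu
  let f : MonoidAlgebra R M := mapRingHom M (algebraMap A R) j * single 1 (↑u₀⁻¹ : R)
  have hf : ∀ m, (f - 1).coeff m ∈ IsLocalRing.maximalIdeal R := by
    intro m
    rw [← IsLocalRing.residue_eq_zero_iff]
    have h1 : mapRingHom M (IsLocalRing.residue R) (f - 1) = 0 := by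
      have h0 : mapRingHom M (IsLocalRing.residue R) (mapRingHom M (algebraMap A R) j) =
          single 1 (IsLocalRing.residue R (↑u₀ : R)) := by
        rw [← RingHom.comp_apply, ← mapRingHom_comp, hu₀]
        exact (hje.trans (one_mul _))
      rw [map_sub, map_one, map_mul, h0, mapRingHom_single, single_mul_single, ← map_mul, Units.mul_inv, map_one,
        one_mul, ← MonoidAlgebra.one_def, sub_self]
    have h2 := congrArg (fun w => w.coeff m) h1
    simp only [coeff_mapRingHom, Finsupp.mapRange_apply, MonoidAlgebra.coeff_zero, Finsupp.zero_apply] at h2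
    exact h2
  let Q := Localization.Away f
  let xQ : MonoidAlgebra A M →+* Q := (algebraMap (MonoidAlgebra R M) Q).comp (mapRingHom M (algebraMap A R))
  have hxQ : J.map xQ = ⊤ := by
    refine Ideal.eq_top_of_isUnit_mem _ (Ideal.mem_map_of_mem xQ hj) ?_
    have h1 : IsUnit (algebraMap (MonoidAlgebra R M) Q f) := IsLocalization.Away.algebraMap_isUnit f
    rw [map_mul] at h1
    exact isUnit_of_mul_isUnit_left h1
  haveI : IsClosedImmersion (pullback.snd ι (Spec.map (CommRingCat.ofHom xQ))) :=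
    isClosedImmersion_snd_of_range_le _ (range_le_of_map_eq_top hJ xQ hxQ)
  obtain ⟨IQ, hIQ, hcrit⟩ := exists_ker_criterion (pullback.snd ι (Spec.map (CommRingCat.ofHom xQ)))
  obtain ⟨s, hs⟩ := hIQ inferInstance
  have hnum : ∀ z : Q, ∃ g : MonoidAlgebra R M, ∃ n : ℕ, z * algebraMap _ Q (f ^ n) = algebraMap _ Q g := fun z => by
    obtain ⟨⟨g, _, n, rfl⟩, hz⟩ := IsLocalization.surj (Submonoid.powers f) z
    exact ⟨g, n, hz⟩
  choose num pw hnum using hnum
  obtain ⟨c, hcfg, hc⟩ := CoeffLocus.exists_coeff_ideal (Ideal.span ((s.image num : Finset (MonoidAlgebra R M)) : Set (MonoidAlgebra R M)))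
    ⟨_, rfl⟩
  have key : ∀ (C : Type u) [CommRing C] [Algebra R C] [Algebra A C] [IsScalarTower A R C],
      AllFac ι C ↔ c ≤ RingHom.ker (algebraMap R C) := by
    intro C _ _ _ _
    let fC := mapRingHom M (algebraMap R C) f
    have hnzd : ∀ g, fC * g = 0 → g = 0 := eq_zero_of_map_mul_eq_zero f hf C
    rw [← hc]
    constructor
    · intro hall
      refine Ideal.span_le.mpr fun g hg => RingHom.mem_ker.mpr ?_
      obtain ⟨z, hz, rfl⟩ := Finset.mem_image.mp hg
      let QC := Localization.Away fC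
      let k : Q →+* QC := IsLocalization.Away.lift f (g := (algebraMap (MonoidAlgebra C M) QC).comp (mapRingHom M (algebraMap R C)))
        (IsLocalization.Away.algebraMap_isUnit fC)
      have hk : k.comp (algebraMap (MonoidAlgebra R M) Q) =
          (algebraMap (MonoidAlgebra C M) QC).comp (mapRingHom M (algebraMap R C)) := IsLocalization.Away.lift_comp f _
      have h1 : Fac ι (k.comp xQ) := by
        have := hall.comp (algebraMap (MonoidAlgebra C M) QC)
        simp only [xQ, ← RingHom.comp_assoc, hk]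
        rwa [RingHom.comp_assoc, ← mapRingHom_comp, ← IsScalarTower.algebraMap_eq]
      have h2 : k z = 0 := (hcrit QC k).mp ((fac_comp_iff _ _).mp h1) (hs ▸ Submodule.subset_span hz)
      have h3 := congrArg k (hnum z)
      rw [map_mul, h2, zero_mul, ← RingHom.comp_apply, hk, RingHom.comp_apply] at h3
      obtain ⟨⟨_, n, rfl⟩, hn⟩ := (IsLocalization.map_eq_zero_iff (Submonoid.powers fC) _ _).mp h3.symm
      have : ∀ k g, fC ^ k * g = 0 → g = 0 := by
        intro k
        induction k with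
        | zero => intro g hg; simpa using hg
        | succ k ih => intro g hg; rw [pow_succ, mul_assoc] at hg; exact hnzd _ (ih _ hg)
      exact this n _ hn
    · intro hle
      refine allFac_of_dense hmul C fC hnzd (fun L _ _ g => map_nzd_field hf C L g) fun D _ k hk => ?_
      let k' : Q →+* D := IsLocalization.Away.lift f (g := k.comp (mapRingHom M (algebraMap R C))) hk
      have hk' : k'.comp (algebraMap (MonoidAlgebra R M) Q) = k.comp (mapRingHom M (algebraMap R C)) :=
        IsLocalization.Away.lift_comp f _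
      have h1 : Fac ι (k'.comp xQ) := by
        refine (fac_comp_iff _ _).mpr ((hcrit D k').mpr ?_)
        rw [← hs]
        refine Submodule.span_le.mpr fun z hz => ?_
        show k' z = 0
        have h3 := congrArg k' (hnum z)
        rw [map_mul, ← RingHom.comp_apply k', ← RingHom.comp_apply k' (algebraMap (MonoidAlgebra R M) Q) (num z), hk', RingHom.comp_apply k _ (num z),
          show mapRingHom M (algebraMap R C) (num z) = 0 from hle (Ideal.subset_span (Finset.mem_image_of_mem num hz)),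
          map_zero, RingHom.comp_apply, map_pow, map_pow] at h3
        exact (hk.pow (pw z)).mul_left_eq_zero.mp h3
      simp only [xQ, ← RingHom.comp_assoc, hk'] at h1
      rwa [RingHom.comp_assoc, ← mapRingHom_comp, ← IsScalarTower.algebraMap_eq] at h1
  let 𝔪 := IsLocalRing.maximalIdeal R
  have hcm : c ≤ 𝔪 := by
    have := (key p.ResidueField).mp hκ
    intro x hx
    have h1 : IsLocalRing.residue R x = 0 := this hx
    exact (IsLocalRing.residue_eq_zero_iff x).mp h1
  let B := R ⧸ (𝔪 * c)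
  let JB : Ideal B := c.map (Ideal.Quotient.mk (𝔪 * c))
  have hJ2 : JB ^ 2 = ⊥ := by
    rw [← Ideal.map_pow, Ideal.map_eq_bot_iff_le_ker, Ideal.mk_ker, pow_two]
    exact Ideal.mul_mono hcm le_rfl
  have hpJ : ∀ x ∈ p, ∀ y ∈ JB, algebraMap A B x * y = 0 := by
    intro x hx y hy
    obtain ⟨z, hz, rfl⟩ := (Ideal.mem_map_iff_of_surjective _ Ideal.Quotient.mk_surjective).mp hy
    have h1 : algebraMap A B x = Ideal.Quotient.mk (𝔪 * c) (algebraMap A R x) := rfl
    rw [h1, ← map_mul, Ideal.Quotient.eq_zero_iff_mem]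
    exact Ideal.mul_mem_mul ((IsLocalization.AtPrime.to_map_mem_maximal_iff R p x).mpr hx) hz
  have hBq : AllFac ι (B ⧸ JB) := (key (B ⧸ JB)).mpr fun x hx => by
    show Ideal.Quotient.mk JB (Ideal.Quotient.mk (𝔪 * c) x) = 0
    exact Ideal.Quotient.eq_zero_iff_mem.mpr (Ideal.mem_map_of_mem _ hx)
  have hB : AllFac ι B := hrig B JB hJ2 hpJ (fun a ha => by
    have := (IsLocalization.map_units R (⟨a, ha⟩ : p.primeCompl)).map (Ideal.Quotient.mk (𝔪 * c))
    exact this) hBq
  have hc0 : c = ⊥ := by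
    refine Submodule.eq_bot_of_le_smul_of_le_jacobson_bot 𝔪 c hcfg ?_ (IsLocalRing.maximalIdeal_le_jacobson _)
    rw [smul_eq_mul]
    intro x hx
    exact Ideal.Quotient.eq_zero_iff_mem.mp ((key B).mp hB hx)
  have hR : AllFac ι R := (key R).mpr (by rw [hc0]; exact bot_le)
  -- spread out
  obtain ⟨a₁, ha₁, j₁, hj₁, hje₁⟩ := exists_scalar_mem (algebraMap A R) p (fun b => by
    obtain ⟨⟨x, s, hs⟩, hb⟩ := IsLocalization.surj p.primeCompl b
    exact ⟨x, s, hs, hb⟩) J 1 (map_coborder_eq_top hJ hR ▸ Submodule.mem_top)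
  let d := j₁ - single 1 a₁
  obtain ⟨a₂, ha₂, hd⟩ := exists_killer_finset p (d.coeff.support.image d.coeff) (fun x hx => by
    obtain ⟨m, -, rfl⟩ := Finset.mem_image.mp hx
    have : mapRingHom M (algebraMap A R) d = 0 := by
      rw [map_sub, hje₁, mapRingHom_single, one_mul, sub_self]
    simpa using congrArg (fun w => w.coeff m) this)
  have haJ : single 1 (a₁ * a₂) ∈ J := by
    have : single 1 (a₁ * a₂) = j₁ * single (1 : M) a₂ := by
      have h0 : d * single 1 a₂ = 0 := MonoidAlgebra.ext (Finsupp.ext fun m => by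
        rw [MonoidAlgebra.coeff_mul_single_one]
        by_cases hm : m ∈ d.coeff.support
        · rw [mul_comm]; simpa using hd _ (Finset.mem_image_of_mem _ hm)
        · simp [Finsupp.notMem_support_iff.mp hm])
      rw [sub_mul, sub_eq_zero, single_mul_single, one_mul] at h0
      exact h0.symm
    rw [this]
    exact Ideal.mul_mem_right _ _ hj₁
  let A₁ := Localization.Away (a₁ * a₂)
  let x₁ : MonoidAlgebra A M →+* MonoidAlgebra A₁ M := mapRingHom M (algebraMap A A₁)
  have hx₁ : J.map x₁ = ⊤ := by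
    refine Ideal.eq_top_of_isUnit_mem _ (Ideal.mem_map_of_mem x₁ haJ) ?_
    rw [mapRingHom_single]
    exact (IsLocalization.Away.algebraMap_isUnit (a₁ * a₂)).map (singleOneRingHom (R := A₁) (M := M))
  haveI : IsClosedImmersion (pullback.snd ι (Spec.map (CommRingCat.ofHom x₁))) :=
    isClosedImmersion_snd_of_range_le _ (range_le_of_map_eq_top hJ x₁ hx₁)
  obtain ⟨I₁, hI₁, hcrit₁⟩ := exists_ker_criterion (pullback.snd ι (Spec.map (CommRingCat.ofHom x₁)))
  obtain ⟨c₁, ⟨F, hF⟩, hc₁⟩ := CoeffLocus.exists_coeff_ideal I₁ (hI₁ inferInstance)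
  have hne : ∀ a b, a ∉ p → b ∉ p → a * b ∉ p := fun a b ha hb h => (‹p.IsPrime›.mem_or_mem h).elim ha hb
  have ha12 := hne _ _ ha₁ ha₂
  have hk₁ : IsUnit (algebraMap A R (a₁ * a₂)) := IsLocalization.map_units R (⟨_, ha12⟩ : p.primeCompl)
  let k₁ : A₁ →+* R := IsLocalization.Away.lift (a₁ * a₂) (g := algebraMap A R) hk₁
  have hk₁c : k₁.comp (algebraMap A A₁) = algebraMap A R := IsLocalization.Away.lift_comp (a₁ * a₂) hk₁
  have hF0 : ∀ z ∈ F, k₁ z = 0 := by
    intro z hz
    have h1 : Fac ι ((mapRingHom M k₁).comp x₁) := by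
      simp only [x₁]
      rw [← mapRingHom_comp, hk₁c]
      exact hR
    exact (hc₁ R k₁).mp ((hcrit₁ _ _).mp ((fac_comp_iff _ _).mp h1)) (hF ▸ Submodule.subset_span hz)
  have hnumF : ∀ z : A₁, ∃ y : A, ∃ n : ℕ, z * algebraMap A A₁ ((a₁ * a₂) ^ n) = algebraMap A A₁ y := fun z => by
    obtain ⟨⟨y, _, n, rfl⟩, hz⟩ := IsLocalization.surj (Submonoid.powers (a₁ * a₂)) z
    exact ⟨y, n, hz⟩
  choose nm pp hnm using hnumF
  obtain ⟨a₃, ha₃, ha₃0⟩ := exists_killer_finset p (F.image nm) (fun y hy => by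
    obtain ⟨z, hz, rfl⟩ := Finset.mem_image.mp hy
    have := congrArg k₁ (hnm z)
    rw [map_mul, hF0 z hz, zero_mul, ← RingHom.comp_apply, hk₁c] at this
    exact this.symm)
  refine ⟨a₁ * a₂ * a₃, hne _ _ ha12 ha₃, ?_⟩
  let A₂ := Localization.Away (a₁ * a₂ * a₃)
  have hu2 : IsUnit (algebraMap A A₂ (a₁ * a₂ * a₃)) := IsLocalization.Away.algebraMap_isUnit _
  rw [map_mul] at hu2
  let k₂ : A₁ →+* A₂ := IsLocalization.Away.lift (a₁ * a₂) (g := algebraMap A A₂) (isUnit_of_mul_isUnit_left hu2)
  have hk₂c : k₂.comp (algebraMap A A₁) = algebraMap A A₂ := IsLocalization.Away.lift_comp (a₁ * a₂) _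
  have h2 : c₁ ≤ RingHom.ker k₂ := by
    rw [← hF]
    refine Submodule.span_le.mpr fun z hz => ?_
    have h3 := congrArg k₂ (hnm z)
    rw [map_mul, ← RingHom.comp_apply k₂, ← RingHom.comp_apply k₂ (algebraMap A A₁) (nm z), hk₂c] at h3
    have h4 : algebraMap A A₂ (nm z) = 0 := by
      have h5 := congrArg (algebraMap A A₂) (ha₃0 _ (Finset.mem_image_of_mem nm hz))
      rw [map_mul, map_zero] at h5
      exact (isUnit_of_mul_isUnit_right hu2).mul_right_eq_zero.mp h5
    rw [h4, map_pow] at h3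
    exact ((isUnit_of_mul_isUnit_left hu2).pow _).mul_left_eq_zero.mp h3
  have h6 := (fac_comp_iff x₁ (mapRingHom M k₂)).mpr ((hcrit₁ _ _).mpr ((hc₁ A₂ k₂).mpr h2))
  simp only [x₁] at h6
  rw [← mapRingHom_comp, hk₂c] at h6
  exact h6

end Groth.Agent.FactLocus
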